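import Groth.Agent.GlueEqLib.Mono
import Groth.Agent.AlgSpGlue.Local
import Groth.Agent.ASp.ClosedIdeal
import Groth.Agent.ASp.FppfGlue

/-! Affine charts: maps from spectra, pullbacks of affine étale charts, agreement along glueing pairs. -/

set_option autoImplicit false
set_option linter.style.haveILetI false
set_option backward.isDefEq.respectTransparency false
set_option backward.isDefEq.respectTransparency.types false
set_option maxHeartbeats 1600000

universe u

open CategoryTheory CategoryTheory.Limits AlgebraicGeometry TensorProduct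

noncomputable section

namespace Groth.Agent.GlueEqLib

open _root_.AlgSp Groth.Agent.AlgSpGlue

variable {R : Type u} [CommRing R]

section Spec

variable {A B C : Type u} [CommRing A] [Algebra R A] [CommRing B] [Algebra R B] [CommRing C] [Algebra R C]

/-- The map of spectra over the base given by an algebra map. -/
def specMap (φ : A →ₐ[R] B) : specOver R B ⟶ specOver R A :=
  Over.homMk (Spec.map (CommRingCat.ofHom φ.toRingHom)) (by
    show Spec.map _ ≫ Spec.map _ = Spec.map _
    rw [← Spec.map_comp, ← CommRingCat.ofHom_comp]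
    exact congrArg (fun g => Spec.map (CommRingCat.ofHom g)) φ.comp_algebraMap)

theorem specMap_left (φ : A →ₐ[R] B) : (specMap φ).left = Spec.map (CommRingCat.ofHom φ.toRingHom) := rfl

theorem specMap_comp (φ : A →ₐ[R] B) (ψ : B →ₐ[R] C) : specMap ψ ≫ specMap φ = specMap (ψ.comp φ) :=
  Over.OverMorphism.ext (Spec.map_comp _ _).symm

theorem specMap_injective {φ ψ : A →ₐ[R] B} (h : specMap φ = specMap ψ) : φ = ψ := by
  have h1 := Spec.map_injective (congrArg (fun m => m.left) h)
  exact AlgHom.ext fun a => ConcreteCategory.congr_hom h1 a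

theorem specMap_surjective (g : specOver R B ⟶ specOver R A) : ∃ φ : A →ₐ[R] B, specMap φ = g := by
  obtain ⟨v, hv⟩ := Spec.map_surjective g.left
  have h1 : Spec.map v ≫ Spec.map (CommRingCat.ofHom (algebraMap R A)) =
      Spec.map (CommRingCat.ofHom (algebraMap R B)) := hv ▸ Over.w g
  rw [← Spec.map_comp] at h1
  exact ⟨{ v.hom with commutes' := fun r => ConcreteCategory.congr_hom (Spec.map_injective h1) r },
    Over.OverMorphism.ext hv⟩

theorem map_comp_map {T : Sp (Spec (CommRingCat.of R))} (φ : A →ₐ[R] B) (ψ : B →ₐ[R] C)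
    (x : (yon _).obj (specOver R A) ⟶ T) :
    (yon _).map (specMap ψ) ≫ (yon _).map (specMap φ) ≫ x = (yon _).map (specMap (ψ.comp φ)) ≫ x := by
  rw [← Category.assoc, ← Functor.map_comp, specMap_comp]

end Spec

theorem map_to_base_eq {S : Scheme.{u}} {T : Over S} (a b : (yon S).obj T ⟶ (yon S).obj (Over.mk (𝟙 S))) : a = b := by
  obtain ⟨a, rfl⟩ := (yon S).map_surjective a
  obtain ⟨b, rfl⟩ := (yon S).map_surjective b
  exact congrArg _ (Over.OverMorphism.ext (by
    have h1 := Over.w a
    have h2 := Over.w b
    simp only [Over.mk_hom] at h1 h2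
    simpa using h1.trans h2.symm))

/-- An affine scheme over the base is the spectrum of an algebra. -/
theorem exists_specIso (T : Over (Spec (CommRingCat.of R))) [IsAffine T.left] :
    ∃ (A : Type u) (_ : CommRing A) (_ : Algebra R A), Nonempty (specOver R A ≅ T) := by
  letI : Algebra R Γ(T.left, ⊤) := (Spec.preimage (T.left.isoSpec.inv ≫ T.hom)).hom.toAlgebra
  exact ⟨Γ(T.left, ⊤), inferInstance, inferInstance,
    ⟨Over.isoMk T.left.isoSpec.symm (Spec.map_preimage _).symm⟩⟩

/-- Every étale algebra over `C` is glueable. -/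
def EtGlueable (R R' : Type u) [CommRing R] [CommRing R'] [Algebra R R'] (f : R) (C : Type u) [CommRing C]
    [Algebra R C] : Prop :=
  ∀ (D : Type u) [CommRing D] [Algebra R D] (φ : C →ₐ[R] D), Etale (specMap φ).left → EtGlue.IsGlueable R R' f D

theorem etGlueable_of_etale {R' : Type u} [CommRing R'] [Algebra R R'] {f : R} {C D : Type u} [CommRing C]
    [Algebra R C] [CommRing D] [Algebra R D] (h : EtGlueable R R' f C) (φ : C →ₐ[R] D)
    (hφ : Etale (specMap φ).left) : EtGlueable R R' f D := fun E _ _ ψ hψ => by
  haveI := hφ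
  haveI := hψ
  refine h E (ψ.comp φ) ?_
  rw [← specMap_comp, Over.comp_left]
  infer_instance

theorem etGlueable_of_chart {R' : Type u} [CommRing R'] [Algebra R R'] {f : R}
    {Y : Sp (Spec (CommRingCat.of R))}
    (hY : ∀ (A : Type u) [CommRing A] [Algebra R A] (g : (yon _).obj (specOver R A) ⟶ Y),
      RepWith @Etale g → EtGlue.IsGlueable R R' f A)
    {C : Type u} [CommRing C] [Algebra R C] {g : (yon _).obj (specOver R C) ⟶ Y} (hg : RepWith @Etale g) :
    EtGlueable R R' f C := fun D _ _ φ he =>
  hY D ((yon _).map (specMap φ) ≫ g) (ASp.repWith_comp (P := @Etale) (ASp.repWith_yon_map (P := @Etale) he) hg)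

variable {R' : Type u} [CommRing R'] [Algebra R R'] {f : R}

/-- Two maps from `Spec C` to a space which agree on both pieces of the glueing pair are equal. -/
theorem eq_of_agree (hRR' : EtGlue.IsGlueingPair R R' f) {Z : Sp (Spec (CommRingCat.of R))}
    (hd : Representable (Limits.diag Z)) {C : Type u} [CommRing C] [Algebra R C] (hC : EtGlueable R R' f C)
    (a b : (yon _).obj (specOver R C) ⟶ Z)
    (h' : (yon _).map (specMap (Algebra.TensorProduct.includeLeft : C →ₐ[R] C ⊗[R] R')) ≫ a =
      (yon _).map (specMap (Algebra.TensorProduct.includeLeft : C →ₐ[R] C ⊗[R] R')) ≫ b)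
    (ht : (yon _).map (specMap (IsScalarTower.toAlgHom R C (Localization.Away (algebraMap R C f)))) ≫ a =
      (yon _).map (specMap (IsScalarTower.toAlgHom R C (Localization.Away (algebraMap R C f)))) ≫ b) : a = b := by
  let σ := prod.lift a b
  let pO := hd.snd σ
  haveI : Mono (Limits.diag Z) := SplitMono.mono ⟨prod.fst, by simp [Limits.diag]⟩
  haveI : Mono ((yon (Spec (CommRingCat.of R))).map pO) := (hd.isPullback σ).mono_snd_of_mono
  haveI : Mono pO := (yon _).mono_of_mono_map inferInstance
  haveI : Mono pO.left := Over.mono_left_of_mono pO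
  have w := hd.w σ
  have w1 := congrArg (· ≫ prod.fst) w
  have w2 := congrArg (· ≫ prod.snd) w
  simp only [σ, Limits.diag, Category.assoc, prod.lift_fst, prod.lift_snd, Category.comp_id] at w1 w2
  have lift : ∀ {T' : Over (Spec (CommRingCat.of R))} (e : T' ⟶ specOver R C),
      (yon _).map e ≫ a = (yon _).map e ≫ b → ∃ l, l ≫ pO = e := fun e he =>
    ⟨hd.lift ((yon _).map e ≫ a) e (by
      refine Limits.prod.hom_ext ?_ ?_
      · simp [σ, Limits.diag]
      · simp [σ, Limits.diag, he]), hd.lift_snd _ _ _⟩
  obtain ⟨l', hl'⟩ := lift _ h'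
  obtain ⟨lt, hlt⟩ := lift _ ht
  have hidC : Etale (specMap (AlgHom.id R C)).left := by
    show Etale (Spec.map (CommRingCat.ofHom (RingHom.id C)))
    rw [show CommRingCat.ofHom (RingHom.id C) = 𝟙 _ from rfl, Spec.map_id]
    infer_instance
  have hpair := GluePairLib.isGlueingPair_baseChange C hRR' (hC C (AlgHom.id R C) hidC)
  have hiso : IsIso pO.left := by
    refine isIso_of_glueing hpair pO.left l'.left (congrArg (fun m => m.left) hl') lt.left
      (congrArg (fun m => m.left) hlt) fun c => ?_
    let φ := IsScalarTower.toAlgHom R C (Localization.Away c)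
    refine ⟨Localization.Away c ⊗[R] R', inferInstance, inferInstance,
      (Algebra.TensorProduct.map φ (AlgHom.id R R')).toRingHom, ?_, ?_⟩
    · ext x
      simp [φ, Algebra.TensorProduct.algebraMap_apply]
    · have he : Etale (specMap φ).left := by
        show Etale (Spec.map (CommRingCat.ofHom (algebraMap C (Localization.Away c))))
        infer_instance
      have := GluePairLib.isGlueingPair_baseChange (Localization.Away c) hRR' (hC _ φ he)
      rwa [IsScalarTower.algebraMap_apply R C (Localization.Away c)] at this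
  haveI : IsIso ((Over.forget _).map pO) := hiso
  haveI : IsIso pO := isIso_of_reflects_iso pO (Over.forget _)
  rw [← cancel_epi ((yon (Spec (CommRingCat.of R))).map pO), ← w1, ← w2]

/-- An affine étale chart pulls back to an affine étale chart when the diagonal is affine. -/
theorem exists_chart_pullback {Z : Sp (Spec (CommRingCat.of R))} (hZd : IsAffineMor (Limits.diag Z))
    {D : Type u} [CommRing D] [Algebra R D] {h : (yon _).obj (specOver R D) ⟶ Z} (hh : RepWith @Etale h)
    {C : Type u} [CommRing C] [Algebra R C] (α : (yon _).obj (specOver R C) ⟶ Z) :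
    ∃ (A : Type u) (_ : CommRing A) (_ : Algebra R A) (φ : C →ₐ[R] A) (x : D →ₐ[R] A),
      φ.toRingHom.Etale ∧ IsPullback ((yon _).map (specMap x)) ((yon _).map (specMap φ)) h α := by
  let P := hh.1.pullback α
  have hP := hh.1.isPullback α
  obtain ⟨pD, hpD⟩ := (yon _).map_surjective (hh.1.fst α)
  let T := specOver R D ⨯ specOver R C
  haveI : IsAffine (pullback (specOver R D).hom (specOver R C).hom) :=
    inferInstanceAs (IsAffine (pullback (Spec.map (CommRingCat.ofHom (algebraMap R D)))
      (Spec.map (CommRingCat.ofHom (algebraMap R C)))))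
  haveI : IsAffine T.left := IsAffine.of_isIso (Over.prodLeftIsoPullback (specOver R D) (specOver R C)).hom
  obtain ⟨W, i, fW, hW, hWa⟩ := hZd (Z := T) inferInstance
    (prod.lift ((yon _).map prod.fst ≫ h) ((yon _).map prod.snd ≫ α))
  have e1 : (yon _).map (i ≫ prod.fst) ≫ h = (yon _).map (i ≫ prod.snd) ≫ α := by
    have := hW.w
    have a1 := congrArg (· ≫ prod.fst) this
    have a2 := congrArg (· ≫ prod.snd) this
    simp only [Limits.diag, Category.assoc, prod.lift_fst, prod.lift_snd, Category.comp_id] at a1 a2
    rw [Functor.map_comp, Functor.map_comp, Category.assoc, Category.assoc, ← a1, ← a2]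
  obtain ⟨m, hm⟩ := (yon _).map_surjective (hP.lift ((yon _).map (i ≫ prod.fst)) ((yon _).map (i ≫ prod.snd)) e1)
  have hm1 : m ≫ pD = i ≫ prod.fst := (yon _).map_injective (by rw [Functor.map_comp, hm, hpD, hP.lift_fst])
  have hm2 : m ≫ hh.1.snd α = i ≫ prod.snd := (yon _).map_injective (by rw [Functor.map_comp, hm, hP.lift_snd])
  obtain ⟨n, hn⟩ := (yon _).map_surjective (hW.lift ((yon _).map pD ≫ h)
    ((yon _).map (prod.lift pD (hh.1.snd α))) (by
      refine Limits.prod.hom_ext ?_ ?_
      · simp only [Limits.diag, Category.assoc, prod.lift_fst, Category.comp_id]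
        rw [← Category.assoc, ← Functor.map_comp, prod.lift_fst]
      · simp only [Limits.diag, Category.assoc, prod.lift_snd, Category.comp_id]
        rw [← Category.assoc, ← Functor.map_comp, prod.lift_snd, hpD, hP.w]))
  have hn' : n ≫ i = prod.lift pD (hh.1.snd α) := (yon _).map_injective (by rw [Functor.map_comp, hn, hW.lift_snd])
  haveI : Mono (Limits.diag Z) := SplitMono.mono ⟨prod.fst, by simp [Limits.diag]⟩
  haveI : Mono ((yon (Spec (CommRingCat.of R))).map i) := hW.mono_snd_of_mono
  haveI : Mono i := (yon _).mono_of_mono_map inferInstance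
  haveI : IsIso m := ⟨n, (cancel_mono i).1 (by
      rw [Category.assoc, hn', Category.id_comp]
      ext <;> simp [hm1, hm2]),
    (yon _).map_injective (hP.hom_ext
      (by rw [← hpD, ← Functor.map_comp, ← Functor.map_comp, Category.assoc, hm1, reassoc_of% hn', prod.lift_fst,
          Category.id_comp])
      (by rw [← Functor.map_comp, ← Functor.map_comp, Category.assoc, hm2, reassoc_of% hn', prod.lift_snd,
          Category.id_comp]))⟩
  haveI : IsAffine P.left := by
    haveI := hWa
    haveI : IsIso m.left := inferInstanceAs (IsIso ((Over.forget _).map m))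
    exact IsAffine.of_isIso (inv m.left)
  obtain ⟨A, _, _, ⟨e⟩⟩ := exists_specIso P
  obtain ⟨φ, hφ⟩ := specMap_surjective (e.hom ≫ hh.1.snd α)
  obtain ⟨x, hx⟩ := specMap_surjective (e.hom ≫ pD)
  refine ⟨A, inferInstance, inferInstance, φ, x, ?_, ?_⟩
  · have h1 : Etale (hh.1.snd α).left := hh.2 _ _ _ hP
    haveI : IsIso e.hom.left := inferInstanceAs (IsIso ((Over.forget _).map e.hom))
    have h2 : Etale (Spec.map (CommRingCat.ofHom φ.toRingHom)) := by
      rw [← specMap_left, hφ, Over.comp_left]
      infer_instance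
    exact (HasRingHomProperty.Spec_iff (P := @Etale)).1 h2
  · rw [hφ, hx, Functor.map_comp, Functor.map_comp, hpD]
    exact IsPullback.of_iso hP ((yon _).mapIso e.symm) (Iso.refl _) (Iso.refl _) (Iso.refl _)
      (by simp) (by simp) (by simp) (by simp)

end Groth.Agent.GlueEqLib

end
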