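import Groth.Agent.GlueEqLib.Exists
import Groth.Agent.ASp.Affine
import Groth.Agent.ASp.YonExt

/-! Morphisms between spaces glue along glueing pairs. -/

set_option autoImplicit false
set_option linter.style.haveILetI false
set_option backward.isDefEq.respectTransparency false
set_option backward.isDefEq.respectTransparency.types false
set_option maxHeartbeats 1600000

universe u

open CategoryTheory CategoryTheory.Limits AlgebraicGeometry TensorProduct

noncomputable section

namespace Groth.Agent.GlueEqLib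

open _root_.AlgSp Groth.Agent.AlgSpGlue

variable {R R' : Type u} [CommRing R] [CommRing R'] [Algebra R R'] {f : R}
variable {Y YU YX Z : Sp (Spec (CommRingCat.of R))}

/-- `m` restricts to `A1` over `U` and to `B1` over `X'`. -/
def Good (uY : YU ⟶ Y) (xY : YX ⟶ Y) (A1 : YU ⟶ Z) (B1 : YX ⟶ Z) {T : Over (Spec (CommRingCat.of R))}
    (g : (yon _).obj T ⟶ Y) (m : (yon _).obj T ⟶ Z) : Prop :=
  ∀ (W : Over (Spec (CommRingCat.of R))) (e : W ⟶ T),
    (∀ y : (yon _).obj W ⟶ YU, y ≫ uY = (yon _).map e ≫ g → (yon _).map e ≫ m = y ≫ A1) ∧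
    ∀ y : (yon _).obj W ⟶ YX, y ≫ xY = (yon _).map e ≫ g → (yon _).map e ≫ m = y ≫ B1

theorem Good.comp {uY : YU ⟶ Y} {xY : YX ⟶ Y} {A1 : YU ⟶ Z} {B1 : YX ⟶ Z} {T T' : Over (Spec (CommRingCat.of R))}
    {g : (yon _).obj T ⟶ Y} {m : (yon _).obj T ⟶ Z} (h : Good uY xY A1 B1 g m) (c : T' ⟶ T)
    {g' : (yon _).obj T' ⟶ Y} (hg' : g' = (yon _).map c ≫ g) {m' : (yon _).obj T' ⟶ Z}
    (hm' : m' = (yon _).map c ≫ m) : Good uY xY A1 B1 g' m' := by
  intro W e
  refine ⟨fun y hy => ?_, fun y hy => ?_⟩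
  · rw [hm', ← (h W (e ≫ c)).1 y (by rw [hy, hg', Functor.map_comp, Category.assoc]), Functor.map_comp, Category.assoc]
  · rw [hm', ← (h W (e ≫ c)).2 y (by rw [hy, hg', Functor.map_comp, Category.assoc]), Functor.map_comp, Category.assoc]

variable (hRR' : EtGlue.IsGlueingPair R R' f)
variable (hY : ∀ (A : Type u) [CommRing A] [Algebra R A] (g : (yon _).obj (specOver R A) ⟶ Y),
  RepWith @Etale g → EtGlue.IsGlueable R R' f A)
variable {πY : Y ⟶ (yon (Spec (CommRingCat.of R))).obj (Over.mk (𝟙 _))}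
variable {inU : specOver R (Localization.Away f) ⟶ Over.mk (𝟙 _)} {inX : specOver R R' ⟶ Over.mk (𝟙 _)}
variable {uY : YU ⟶ Y} {sY : YU ⟶ (yon _).obj (specOver R (Localization.Away f))}
variable (hYU : IsPullback uY sY πY ((yon _).map inU))
variable {xY : YX ⟶ Y} {rY : YX ⟶ (yon _).obj (specOver R R')}
variable (hYX : IsPullback xY rY πY ((yon _).map inX))

section Affine

variable {C : Type u} [CommRing C] [Algebra R C] (g : (yon _).obj (specOver R C) ⟶ Y)

/-- The canonical lift over `X'`. -/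
def liftX : (yon _).obj (specOver R (C ⊗[R] R')) ⟶ YX :=
  hYX.lift ((yon _).map (specMap (Algebra.TensorProduct.includeLeft : C →ₐ[R] C ⊗[R] R')) ≫ g)
    ((yon _).map (specMap (Algebra.TensorProduct.includeRight : R' →ₐ[R] C ⊗[R] R'))) (map_to_base_eq _ _)

/-- The map `R_f → C_f`. -/
def awayAlg : Localization.Away f →ₐ[R] Localization.Away (algebraMap R C f) :=
  { Localization.awayMap (algebraMap R C) f with
    commutes' := fun r => by
      show Localization.awayMap (algebraMap R C) f (algebraMap R (Localization.Away f) r) = _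
      rw [IsScalarTower.algebraMap_apply R C (Localization.Away (algebraMap R C f))]
      exact IsLocalization.map_eq _ r }

/-- The canonical lift over `U`. -/
def liftU : (yon _).obj (specOver R (Localization.Away (algebraMap R C f))) ⟶ YU :=
  hYU.lift ((yon _).map (specMap (IsScalarTower.toAlgHom R C (Localization.Away (algebraMap R C f)))) ≫ g)
    ((yon _).map (specMap (awayAlg (f := f) (C := C)))) (map_to_base_eq _ _)

include hRR' hY hYU hYX

theorem good_unique_affine (hd : Representable (Limits.diag Z)) {A1 : YU ⟶ Z} {B1 : YX ⟶ Z}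
    (hg : RepWith @Etale g) {m m' : (yon _).obj (specOver R C) ⟶ Z}
    (hm : Good uY xY A1 B1 g m) (hm' : Good uY xY A1 B1 g m') : m = m' := by
  refine eq_of_agree hRR' hd (etGlueable_of_chart hY hg) m m' ?_ ?_
  · rw [(hm _ _).2 (liftX hYX g) (hYX.lift_fst _ _ _), (hm' _ _).2 (liftX hYX g) (hYX.lift_fst _ _ _)]
  · rw [(hm _ _).1 (liftU hYU g) (hYU.lift_fst _ _ _), (hm' _ _).1 (liftU hYU g) (hYU.lift_fst _ _ _)]

end Affine

include hRR' hY hYU hYX

theorem good_unique (hd : Representable (Limits.diag Z)) {A1 : YU ⟶ Z} {B1 : YX ⟶ Z}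
    {T : Over (Spec (CommRingCat.of R))} {g : (yon _).obj T ⟶ Y} (hg : RepWith @Etale g)
    {m m' : (yon _).obj T ⟶ Z} (hm : Good uY xY A1 B1 g m) (hm' : Good uY xY A1 B1 g m') : m = m' := by
  refine ASp.hom_ext_affineCover fun i => ?_
  let c : Over.mk (T.left.affineCover.f i ≫ T.hom) ⟶ T := Over.homMk (T.left.affineCover.f i) rfl
  haveI : IsAffine (Over.mk (T.left.affineCover.f i ≫ T.hom)).left :=
    inferInstanceAs (IsAffine (T.left.affineCover.X i))
  obtain ⟨B, _, _, ⟨ε⟩⟩ := exists_specIso (Over.mk (T.left.affineCover.f i ≫ T.hom))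
  rw [← cancel_epi ((yon (Spec (CommRingCat.of R))).map ε.hom)]
  simp only [← Category.assoc, ← Functor.map_comp]
  refine good_unique_affine hRR' hY hYU hYX ((yon _).map (ε.hom ≫ c) ≫ g) hd
    (ASp.repWith_comp (P := @Etale) (ASp.repWith_yon_map (P := @Etale) ?_) hg) (hm.comp _ rfl rfl) (hm'.comp _ rfl rfl)
  haveI : IsIso ε.hom.left := inferInstanceAs (IsIso ((Over.forget _).map ε.hom))
  show Etale (ε.hom.left ≫ T.left.affineCover.f i)
  infer_instance

theorem good_exists_affine {Z : Space (Spec (CommRingCat.of R))} (hZd : IsAffineMor (Limits.diag Z.obj))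
    {A1 : YU ⟶ Z.obj} {B1 : YX ⟶ Z.obj}
    (hAB : ∀ {W : Sp (Spec (CommRingCat.of R))} (y₁ : W ⟶ YU) (y₂ : W ⟶ YX), y₁ ≫ uY = y₂ ≫ xY → y₁ ≫ A1 = y₂ ≫ B1)
    {C : Type u} [CommRing C] [Algebra R C] (g : (yon _).obj (specOver R C) ⟶ Y) (hg : RepWith @Etale g) :
    ∃ m : (yon _).obj (specOver R C) ⟶ Z.obj, Good uY xY A1 B1 g m := by
  obtain ⟨α, hα', hαt⟩ := exists_glue hRR' hZd (etGlueable_of_chart hY hg) (liftX hYX g ≫ B1) (liftU hYU g ≫ A1)
    (fun B _ _ ψ' ψt e => by
      rw [← Category.assoc, ← Category.assoc]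
      refine (hAB _ _ ?_).symm
      rw [Category.assoc, Category.assoc, liftU, liftX, hYU.lift_fst, hYX.lift_fst, map_comp_map, map_comp_map, e])
  refine ⟨α, fun W e => ⟨fun y hy => ?_, fun y hy => ?_⟩⟩
  · refine ASp.hom_ext_affineCover fun i => ?_
    let c : Over.mk (W.left.affineCover.f i ≫ W.hom) ⟶ W := Over.homMk (W.left.affineCover.f i) rfl
    haveI : IsAffine (Over.mk (W.left.affineCover.f i ≫ W.hom)).left :=
      inferInstanceAs (IsAffine (W.left.affineCover.X i))
    obtain ⟨B, _, _, ⟨ε⟩⟩ := exists_specIso (Over.mk (W.left.affineCover.f i ≫ W.hom))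
    rw [← cancel_epi ((yon (Spec (CommRingCat.of R))).map ε.hom)]
    simp only [← Category.assoc, ← Functor.map_comp]
    obtain ⟨θ, hθ⟩ := specMap_surjective ((ε.hom ≫ c) ≫ e)
    obtain ⟨s, hs⟩ := (yon _).map_surjective ((yon _).map (ε.hom ≫ c) ≫ y ≫ sY)
    obtain ⟨σ, rfl⟩ := specMap_surjective s
    obtain ⟨ψt, hψt⟩ := exists_lift_away (f := f) θ (by
      rw [θ.commutes, ← σ.commutes]
      exact (IsLocalization.Away.algebraMap_isUnit f).map σ)
    have hy2 : (yon _).map (specMap ψt) ≫ liftU hYU g = (yon _).map (ε.hom ≫ c) ≫ y := by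
      apply hYU.hom_ext
      · rw [Category.assoc, Category.assoc, liftU, hYU.lift_fst, map_comp_map, ← hψt, hy, hθ, Functor.map_comp,
          Functor.map_comp]
        simp only [Category.assoc]
      · rw [Category.assoc, Category.assoc, liftU, hYU.lift_snd, ← Functor.map_comp, specMap_comp, ← hs]
        congr 2
        exact IsLocalization.algHom_ext (Submonoid.powers f) (AlgHom.ext fun r => by
          show (ψt.comp awayAlg) (algebraMap R (Localization.Away f) r) = σ (algebraMap R (Localization.Away f) r)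
          rw [AlgHom.commutes, AlgHom.commutes])
    rw [← hθ, hψt, ← map_comp_map, hαt, ← Category.assoc, hy2]
  · refine ASp.hom_ext_affineCover fun i => ?_
    let c : Over.mk (W.left.affineCover.f i ≫ W.hom) ⟶ W := Over.homMk (W.left.affineCover.f i) rfl
    haveI : IsAffine (Over.mk (W.left.affineCover.f i ≫ W.hom)).left :=
      inferInstanceAs (IsAffine (W.left.affineCover.X i))
    obtain ⟨B, _, _, ⟨ε⟩⟩ := exists_specIso (Over.mk (W.left.affineCover.f i ≫ W.hom))
    rw [← cancel_epi ((yon (Spec (CommRingCat.of R))).map ε.hom)]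
    simp only [← Category.assoc, ← Functor.map_comp]
    obtain ⟨θ, hθ⟩ := specMap_surjective ((ε.hom ≫ c) ≫ e)
    obtain ⟨s, hs⟩ := (yon _).map_surjective ((yon _).map (ε.hom ≫ c) ≫ y ≫ rY)
    obtain ⟨σ, rfl⟩ := specMap_surjective s
    let ψ' : C ⊗[R] R' →ₐ[R] B := Algebra.TensorProduct.lift θ σ fun _ _ => Commute.all _ _
    have hψ' : θ = ψ'.comp Algebra.TensorProduct.includeLeft := (Algebra.TensorProduct.lift_comp_includeLeft _ _ _).symm
    have hy2 : (yon _).map (specMap ψ') ≫ liftX hYX g = (yon _).map (ε.hom ≫ c) ≫ y := by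
      apply hYX.hom_ext
      · rw [Category.assoc, Category.assoc, liftX, hYX.lift_fst, map_comp_map, ← hψ', hy, hθ, Functor.map_comp,
          Functor.map_comp]
        simp only [Category.assoc]
      · rw [Category.assoc, Category.assoc, liftX, hYX.lift_snd, ← Functor.map_comp, specMap_comp, ← hs]
        congr 2
        exact AlgHom.ext fun r => by simp [ψ']
    rw [← hθ, hψ', ← map_comp_map, hα', ← Category.assoc, hy2]

theorem good_exists {Z : Space (Spec (CommRingCat.of R))} (hZd : IsAffineMor (Limits.diag Z.obj))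
    {A1 : YU ⟶ Z.obj} {B1 : YX ⟶ Z.obj}
    (hAB : ∀ {W : Sp (Spec (CommRingCat.of R))} (y₁ : W ⟶ YU) (y₂ : W ⟶ YX), y₁ ≫ uY = y₂ ≫ xY → y₁ ≫ A1 = y₂ ≫ B1)
    {T : Over (Spec (CommRingCat.of R))} (g : (yon _).obj T ⟶ Y) (hg : RepWith @Etale g) :
    ∃ m : (yon _).obj T ⟶ Z.obj, Good uY xY A1 B1 g m := by
  classical
  let U : T.left.affineCover.I₀ → Over (Spec (CommRingCat.of R)) := fun i => Over.mk (T.left.affineCover.f i ≫ T.hom)
  let c : ∀ i, U i ⟶ T := fun i => Over.homMk (T.left.affineCover.f i) rfl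
  haveI hce : ∀ i, Etale (c i).left := fun i => (inferInstance : Etale (T.left.affineCover.f i))
  have hU : ∀ i, ∃ m : (yon _).obj (U i) ⟶ Z.obj, Good uY xY A1 B1 ((yon _).map (c i) ≫ g) m := by
    intro i
    haveI : IsAffine (U i).left := inferInstanceAs (IsAffine (T.left.affineCover.X i))
    obtain ⟨B, _, _, ⟨ε⟩⟩ := exists_specIso (U i)
    obtain ⟨m, hm⟩ := good_exists_affine hRR' hY hYU hYX hZd hAB ((yon _).map (ε.hom ≫ c i) ≫ g)
      (ASp.repWith_comp (P := @Etale) (ASp.repWith_yon_map (P := @Etale) (by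
        haveI : IsIso ε.hom.left := inferInstanceAs (IsIso ((Over.forget _).map ε.hom))
        rw [Over.comp_left]; infer_instance)) hg)
    exact ⟨(yon _).map ε.inv ≫ m, hm.comp ε.inv
      (by rw [← Category.assoc, ← Functor.map_comp, Iso.inv_hom_id_assoc]) rfl⟩
  choose m hm using hU
  have hfl : ∀ i, Flat (c i).left := fun i => (inferInstance : Flat (T.left.affineCover.f i))
  have hfp : ∀ i, LocallyOfFinitePresentation (c i).left := fun i =>
    (inferInstance : LocallyOfFinitePresentation (T.left.affineCover.f i))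
  have hs : ∀ t : ↥T.left, ∃ i, t ∈ Set.range (c i).left := fun t =>
    ⟨T.left.affineCover.idx t, T.left.affineCover.covers t⟩
  obtain ⟨M, hM, -⟩ := ASp.existsUnique_glue hfl hfp hs m (fun i j W gi gj e => by
    let P := pullback (c i) (c j)
    have hPg : RepWith @Etale ((yon _).map (pullback.fst (c i) (c j) ≫ c i) ≫ g) :=
      ASp.repWith_comp (P := @Etale) (ASp.repWith_yon_map (P := @Etale) (by
        have h1 : Etale (pullback.fst (c i) (c j)).left := MorphismProperty.of_isPullback (P := @Etale)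
          (ASp.isPullback_left ((IsPullback.of_hasPullback (c i) (c j)))).flip (hce j)
        rw [Over.comp_left]
        infer_instance)) hg
    have key : (yon _).map (pullback.fst (c i) (c j)) ≫ m i = (yon _).map (pullback.snd (c i) (c j)) ≫ m j :=
      good_unique hRR' hY hYU hYX Z.property.diag hPg
        ((hm i).comp _ (by rw [← Category.assoc, ← Functor.map_comp]) rfl)
        ((hm j).comp _ (by rw [← Category.assoc, ← Functor.map_comp, pullback.condition]) rfl)
    have := congrArg ((yon _).map (pullback.lift gi gj e) ≫ ·) key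
    simpa only [← Category.assoc, ← Functor.map_comp, pullback.lift_fst, pullback.lift_snd] using this)
  refine ⟨M, fun W e => ?_⟩
  have hcov : ∀ w : ↥W.left, ∃ i, w ∈ Set.range (pullback.fst e (c i)).left := by
    intro w
    obtain ⟨i, u, hu⟩ := hs (e.left w)
    obtain ⟨p, hp, -⟩ := Scheme.exists_preimage_of_isPullback
      (ASp.isPullback_left (IsPullback.of_hasPullback e (c i))) w u hu.symm
    exact ⟨i, p, hp⟩
  have hpe : ∀ i, Etale (pullback.fst e (c i)).left := fun i => MorphismProperty.of_isPullback (P := @Etale)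
    (ASp.isPullback_left (IsPullback.of_hasPullback e (c i))).flip (hce i)
  have hq : ∀ i, (yon _).map (pullback.fst e (c i)) ≫ (yon _).map e ≫ g =
      (yon _).map (pullback.snd e (c i)) ≫ (yon _).map (c i) ≫ g := fun i => by
    simp only [← Category.assoc, ← Functor.map_comp, pullback.condition]
  have hqM : ∀ i, (yon _).map (pullback.fst e (c i)) ≫ (yon _).map e ≫ M =
      (yon _).map (pullback.snd e (c i)) ≫ m i := fun i => by
    rw [← Category.assoc, ← Functor.map_comp, pullback.condition, Functor.map_comp, Category.assoc, hM i]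
  refine ⟨fun y hy => ?_, fun y hy => ?_⟩
  · refine ASp.hom_ext_fppf (c := fun i => pullback.fst e (c i)) (fun i => by haveI := hpe i; infer_instance)
      (fun i => by haveI := hpe i; infer_instance) hcov fun i => ?_
    rw [hqM, ((hm i) _ (pullback.snd e (c i))).1 ((yon _).map (pullback.fst e (c i)) ≫ y)
      (by rw [Category.assoc, hy, hq]), Category.assoc]
  · refine ASp.hom_ext_fppf (c := fun i => pullback.fst e (c i)) (fun i => by haveI := hpe i; infer_instance)
      (fun i => by haveI := hpe i; infer_instance) hcov fun i => ?_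
    rw [hqM, ((hm i) _ (pullback.snd e (c i))).2 ((yon _).map (pullback.fst e (c i)) ≫ y)
      (by rw [Category.assoc, hy, hq]), Category.assoc]

/-- Morphisms on the two pieces agreeing on the overlap glue uniquely. -/
theorem existsUnique_desc (hYa : IsAlgSpace Y) {Z : Space (Spec (CommRingCat.of R))}
    (hZd : IsAffineMor (Limits.diag Z.obj)) (A1 : YU ⟶ Z.obj) (B1 : YX ⟶ Z.obj)
    (hAB : ∀ {W : Sp (Spec (CommRingCat.of R))} (y₁ : W ⟶ YU) (y₂ : W ⟶ YX), y₁ ≫ uY = y₂ ≫ xY → y₁ ≫ A1 = y₂ ≫ B1) :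
    ∃! φ : Y ⟶ Z.obj, uY ≫ φ = A1 ∧ xY ≫ φ = B1 := by
  obtain ⟨T, p, hp, hps⟩ := hYa.atlas
  haveI : Epi p := ASp.epi_of_etale_surjective hp hps
  obtain ⟨m, hm⟩ := good_exists hRR' hY hYU hYX hZd hAB p hp
  have hsq := hp.1.isPullback p
  obtain ⟨r₁, hr₁⟩ := (yon _).map_surjective (hp.1.fst p)
  have hker : hp.1.fst p ≫ m = (yon _).map (hp.1.snd p) ≫ m := by
    have hg2 : RepWith @Etale ((yon _).map (hp.1.snd p) ≫ p) :=
      ASp.repWith_comp (P := @Etale) (ASp.repWith_yon_map (P := @Etale) (hp.2 _ _ _ hsq)) hp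
    rw [← hr₁]
    exact good_unique hRR' hY hYU hYX Z.property.diag hg2 (hm.comp r₁ (by rw [hr₁, hsq.w]) rfl) (hm.comp _ rfl rfl)
  obtain ⟨φ, hφ⟩ := ASp.exists_desc_of_epi p hsq m hker
  refine ⟨φ, ⟨?_, ?_⟩, fun φ' ⟨h1, h2⟩ => ?_⟩
  · have hQ := IsPullback.of_hasPullback uY p
    haveI : Epi (pullback.fst uY p) := ASp.epi_of_etale_surjective (ASp.repWith_of_isPullback hQ.flip hp)
      (ASp.repWith_of_isPullback hQ.flip hps)
    refine (cancel_epi (pullback.fst uY p)).1 (ASp.hom_ext_of_yon fun W b => ?_)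
    obtain ⟨e, he⟩ := (yon _).map_surjective (b ≫ pullback.snd uY p)
    rw [reassoc_of% hQ.w, hφ, ← Category.assoc, ← he, (hm W e).1 (b ≫ pullback.fst uY p)
      (by rw [Category.assoc, hQ.w, he, Category.assoc]), Category.assoc]
  · have hQ := IsPullback.of_hasPullback xY p
    haveI : Epi (pullback.fst xY p) := ASp.epi_of_etale_surjective (ASp.repWith_of_isPullback hQ.flip hp)
      (ASp.repWith_of_isPullback hQ.flip hps)
    refine (cancel_epi (pullback.fst xY p)).1 (ASp.hom_ext_of_yon fun W b => ?_)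
    obtain ⟨e, he⟩ := (yon _).map_surjective (b ≫ pullback.snd xY p)
    rw [reassoc_of% hQ.w, hφ, ← Category.assoc, ← he, (hm W e).2 (b ≫ pullback.fst xY p)
      (by rw [Category.assoc, hQ.w, he, Category.assoc]), Category.assoc]
  · rw [← cancel_epi p, hφ]
    refine good_unique hRR' hY hYU hYX Z.property.diag hp (fun W e => ⟨fun y hy => ?_, fun y hy => ?_⟩) hm
    · rw [← reassoc_of% hy, h1]
    · rw [← reassoc_of% hy, h2]

end Groth.Agent.GlueEqLib

end
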