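import Groth.Agent.GlueEqLib.Local

/-! Existence of glued maps out of affine schemes. -/

set_option autoImplicit false
set_option linter.style.haveILetI false
set_option backward.isDefEq.respectTransparency false
set_option backward.isDefEq.respectTransparency.types false
set_option maxHeartbeats 3200000

universe u

open CategoryTheory CategoryTheory.Limits AlgebraicGeometry TensorProduct

noncomputable section

namespace Groth.Agent.GlueEqLib

open _root_.AlgSp Groth.Agent.AlgSpGlue

variable {R R' : Type u} [CommRing R] [CommRing R'] [Algebra R R'] {f : R}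
variable {C : Type u} [CommRing C] [Algebra R C]

theorem etale_specMap {A B : Type u} [CommRing A] [Algebra R A] [CommRing B] [Algebra R B] {φ : A →ₐ[R] B}
    (h : φ.toRingHom.Etale) : Etale (specMap φ).left :=
  (HasRingHomProperty.Spec_iff (P := @Etale)).2 h

/-- A field valued point of the base of a chart lifts if the point is in its image. -/
theorem exists_field_point {Z : Space (Spec (CommRingCat.of R))} {D B : Type u} [CommRing D] [Algebra R D]
    [CommRing B] [Algebra R B] {h : (yon _).obj (specOver R D) ⟶ Z.obj} (hh : RepWith @Etale h)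
    (hBD : IsAffineMor (Limits.diag Z.obj)) (β : (yon _).obj (specOver R B) ⟶ Z.obj) (q : PrimeSpectrum B)
    (hq : Points.map β (Points.schemeHomeo (specOver R B) q) ∈ Set.range (Points.map h)) :
    ∃ (Ω : Type u) (_ : Field Ω) (_ : Algebra R Ω) (p : D →ₐ[R] Ω) (ψ : B →ₐ[R] Ω),
      RingHom.ker ψ.toRingHom = q.asIdeal ∧ (yon _).map (specMap p) ≫ h = (yon _).map (specMap ψ) ≫ β := by
  obtain ⟨A, _, _, φ, x, -, hP⟩ := exists_chart_pullback hBD hh β
  obtain ⟨z, hz⟩ := hq
  obtain ⟨w, -, hw⟩ := ASp.points_exists_of_isPullback hP z (Points.schemeHomeo (specOver R B) q) hz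
  obtain ⟨P, rfl⟩ := (Points.schemeHomeo (specOver R A)).surjective w
  rw [Points.map_yon_map_apply] at hw
  have hP' := (Points.schemeHomeo (specOver R B)).injective hw
  let Ω := (P : PrimeSpectrum A).asIdeal.ResidueField
  let ι := IsScalarTower.toAlgHom R A Ω
  refine ⟨Ω, inferInstance, inferInstance, ι.comp x, ι.comp φ, ?_, by rw [← map_comp_map, hP.w, map_comp_map]⟩
  rw [← hP']
  show RingHom.ker ((algebraMap A Ω).comp φ.toRingHom) = _
  rw [← RingHom.comap_ker, Ideal.ker_algebraMap_residueField]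
  rfl

/-- Maps inverting `f` factor through the localisation. -/
theorem exists_lift_away {B : Type u} [CommRing B] [Algebra R B] (j : C →ₐ[R] B)
    (hu : IsUnit (j (algebraMap R C f))) :
    ∃ ψt : Localization.Away (algebraMap R C f) →ₐ[R] B, j = ψt.comp (IsScalarTower.toAlgHom R C _) := by
  have hu' : ∀ y : Submonoid.powers (algebraMap R C f), IsUnit (j.toRingHom y) := by
    rintro ⟨_, n, rfl⟩
    show IsUnit (j (algebraMap R C f ^ n))
    rw [map_pow]
    exact hu.pow n
  refine ⟨{ IsLocalization.lift hu' with commutes' := fun r => ?_ }, AlgHom.ext fun c => ?_⟩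
  · show IsLocalization.lift hu' (algebraMap R (Localization.Away (algebraMap R C f)) r) = _
    rw [IsScalarTower.algebraMap_apply R C (Localization.Away (algebraMap R C f)), IsLocalization.lift_eq]
    exact j.commutes r
  · exact (IsLocalization.lift_eq hu' c).symm

/-- Agreeing maps on two étale charts agree on their overlap. -/
theorem agree_overlap (hRR' : EtGlue.IsGlueingPair R R' f) {Z : Space (Spec (CommRingCat.of R))}
    (hC : EtGlueable R R' f C) {α' : (yon _).obj (specOver R (C ⊗[R] R')) ⟶ Z.obj}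
    {αt : (yon _).obj (specOver R (Localization.Away (algebraMap R C f))) ⟶ Z.obj}
    {A₁ A₂ : Type u} [CommRing A₁] [Algebra R A₁] [CommRing A₂] [Algebra R A₂]
    {ψ₁ : C →ₐ[R] A₁} {ψ₂ : C →ₐ[R] A₂} (h₁ : ψ₁.toRingHom.Etale) (h₂ : ψ₂.toRingHom.Etale)
    {x₁ : (yon _).obj (specOver R A₁) ⟶ Z.obj} {x₂ : (yon _).obj (specOver R A₂) ⟶ Z.obj}
    (ag₁ : Agrees α' αt ψ₁ x₁) (ag₂ : Agrees α' αt ψ₂ x₂)
    (W : Over (Spec (CommRingCat.of R))) (g₁ : W ⟶ specOver R A₁) (g₂ : W ⟶ specOver R A₂)
    (e : g₁ ≫ specMap ψ₁ = g₂ ≫ specMap ψ₂) : (yon _).map g₁ ≫ x₁ = (yon _).map g₂ ≫ x₂ := by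
  letI : Algebra C A₁ := ψ₁.toRingHom.toAlgebra
  letI : Algebra C A₂ := ψ₂.toRingHom.toAlgebra
  haveI : IsScalarTower R C A₁ := IsScalarTower.of_algebraMap_eq fun r => (ψ₁.commutes r).symm
  haveI : IsScalarTower R C A₂ := IsScalarTower.of_algebraMap_eq fun r => (ψ₂.commutes r).symm
  haveI : Algebra.Etale C A₁ := RingHom.etale_algebraMap.1 h₁
  haveI : Algebra.Etale C A₂ := RingHom.etale_algebraMap.1 h₂
  let E := A₁ ⊗[C] A₂
  haveI : Algebra.Etale C E := Algebra.Etale.comp C A₁ E
  let l₁ : A₁ →ₐ[R] E := (Algebra.TensorProduct.includeLeft : A₁ →ₐ[C] _).restrictScalars R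
  let l₂ : A₂ →ₐ[R] E := (Algebra.TensorProduct.includeRight : A₂ →ₐ[C] _).restrictScalars R
  have hl : l₁.comp ψ₁ = l₂.comp ψ₂ := AlgHom.ext fun c => by
    show (Algebra.TensorProduct.includeLeft : A₁ →ₐ[C] E) (algebraMap C A₁ c) =
      (Algebra.TensorProduct.includeRight : A₂ →ₐ[C] E) (algebraMap C A₂ c)
    rw [AlgHom.commutes, AlgHom.commutes]
  let iE : C →ₐ[R] E := l₁.comp ψ₁
  have hE : EtGlueable R R' f E :=
    etGlueable_of_etale hC (IsScalarTower.toAlgHom R C E) (etale_specMap (RingHom.etale_algebraMap.2 inferInstance))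
  have key : (yon _).map (specMap l₁) ≫ x₁ = (yon _).map (specMap l₂) ≫ x₂ := by
    refine eq_of_agree hRR' Z.property.diag hE _ _ ?_ ?_
    · let ψ' : C ⊗[R] R' →ₐ[R] E ⊗[R] R' := Algebra.TensorProduct.map iE (AlgHom.id R R')
      have e1 : ((Algebra.TensorProduct.includeLeft : E →ₐ[R] E ⊗[R] R').comp iE) =
          ψ'.comp (Algebra.TensorProduct.includeLeft : C →ₐ[R] C ⊗[R] R') := by
        ext c; simp [ψ']
      rw [map_comp_map, map_comp_map, ag₁.1 _ _ ψ' (by rw [AlgHom.comp_assoc]; exact e1),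
        ag₂.1 _ _ ψ' (by rw [AlgHom.comp_assoc, ← hl]; exact e1)]
    · obtain ⟨LE, _, _, jE, hje, hju⟩ : ∃ (LE : Type u) (_ : CommRing LE) (_ : Algebra R LE)
          (jE : E →ₐ[R] LE), (∃ e : specOver R LE ≅ specOver R (Localization.Away (algebraMap R E f)),
            e.hom ≫ specMap (IsScalarTower.toAlgHom R E (Localization.Away (algebraMap R E f))) = specMap jE) ∧
          IsUnit (jE (algebraMap R E f)) :=
        ⟨_, inferInstance, inferInstance, IsScalarTower.toAlgHom R E (Localization.Away (algebraMap R E f)),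
          ⟨Iso.refl _, Category.id_comp _⟩, IsLocalization.Away.algebraMap_isUnit (algebraMap R E f)⟩
      obtain ⟨ε, hε⟩ := hje
      rw [← cancel_epi ((yon (Spec (CommRingCat.of R))).map ε.hom)]
      simp only [← Category.assoc, ← Functor.map_comp, hε]
      try simp only [Category.assoc, ← specMap_comp]
      obtain ⟨ψt, e1⟩ := exists_lift_away (R := R) (f := f) (jE.comp iE) (by
        rw [AlgHom.comp_apply, iE.commutes]; exact hju)
      simp only [specMap_comp]
      rw [ag₁.2 _ _ ψt (by rw [AlgHom.comp_assoc]; exact e1),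
        ag₂.2 _ _ ψt (by rw [AlgHom.comp_assoc, ← hl]; exact e1)]
  refine ASp.hom_ext_affineCover fun m => ?_
  let c : Over.mk (W.left.affineCover.f m ≫ W.hom) ⟶ W := Over.homMk (W.left.affineCover.f m) rfl
  haveI : IsAffine (Over.mk (W.left.affineCover.f m ≫ W.hom)).left :=
    inferInstanceAs (IsAffine (W.left.affineCover.X m))
  obtain ⟨B, _, _, ⟨ε⟩⟩ := exists_specIso (Over.mk (W.left.affineCover.f m ≫ W.hom))
  obtain ⟨θ₁, hθ₁⟩ := specMap_surjective (ε.hom ≫ c ≫ g₁)
  obtain ⟨θ₂, hθ₂⟩ := specMap_surjective (ε.hom ≫ c ≫ g₂)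
  rw [← cancel_epi ((yon (Spec (CommRingCat.of R))).map ε.hom)]
  simp only [← Category.assoc, ← Functor.map_comp]
  rw [show (ε.hom ≫ c) ≫ g₁ = specMap θ₁ by rw [hθ₁, Category.assoc],
    show (ε.hom ≫ c) ≫ g₂ = specMap θ₂ by rw [hθ₂, Category.assoc]]
  have eθ : θ₁.comp ψ₁ = θ₂.comp ψ₂ := specMap_injective (by
    rw [← specMap_comp, ← specMap_comp, hθ₁, hθ₂]
    simp only [Category.assoc, e])
  letI : Algebra C B := (θ₁.comp ψ₁).toRingHom.toAlgebra
  haveI : IsScalarTower R C B := IsScalarTower.of_algebraMap_eq fun r => ((θ₁.comp ψ₁).commutes r).symm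
  let a : A₁ →ₐ[C] B := { θ₁.toRingHom with commutes' := fun c => rfl }
  let b : A₂ →ₐ[C] B := { θ₂.toRingHom with commutes' := fun c => (AlgHom.congr_fun eθ c).symm }
  let θ : E →ₐ[R] B := (Algebra.TensorProduct.lift a b fun _ _ => Commute.all _ _).restrictScalars R
  have ea : θ.comp l₁ = θ₁ := AlgHom.ext fun y => by
    show Algebra.TensorProduct.lift a b (fun _ _ => Commute.all _ _) (y ⊗ₜ[C] (1 : A₂)) = θ₁ y
    rw [Algebra.TensorProduct.lift_tmul, map_one, mul_one]
    rfl
  have eb : θ.comp l₂ = θ₂ := AlgHom.ext fun y => by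
    show Algebra.TensorProduct.lift a b (fun _ _ => Commute.all _ _) ((1 : A₁) ⊗ₜ[C] y) = θ₂ y
    rw [Algebra.TensorProduct.lift_tmul, map_one, one_mul]
    rfl
  rw [← ea, ← eb, ← map_comp_map, key, map_comp_map]

/-- Maps out of `Spec C'` can be tested on the base changes of étale charts of `Spec C`. -/
theorem ext_of_charts {Z : Sp (Spec (CommRingCat.of R))} {κ : Type u} {A : κ → Type u} [∀ k, CommRing (A k)]
    [∀ k, Algebra R (A k)] {ψ : ∀ k, C →ₐ[R] A k} (hψ : ∀ k, (ψ k).toRingHom.Etale)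
    (hsurj : ∀ P : PrimeSpectrum C, ∃ k, P ∈ Set.range (specMap (ψ k)).left)
    {C' : Type u} [CommRing C'] [Algebra R C'] (i : C →ₐ[R] C')
    {a b : (yon _).obj (specOver R C') ⟶ Z}
    (h : ∀ k (B : Type u) [CommRing B] [Algebra R B] (θ : A k →ₐ[R] B) (ψ' : C' →ₐ[R] B),
      θ.comp (ψ k) = ψ'.comp i → (yon _).map (specMap ψ') ≫ a = (yon _).map (specMap ψ') ≫ b) : a = b := by
  letI : Algebra C C' := i.toRingHom.toAlgebra
  haveI : IsScalarTower R C C' := IsScalarTower.of_algebraMap_eq fun r => (i.commutes r).symm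
  letI := fun k => (ψ k).toRingHom.toAlgebra
  haveI : ∀ k, IsScalarTower R C (A k) := fun k => IsScalarTower.of_algebraMap_eq fun r => ((ψ k).commutes r).symm
  haveI : ∀ k, Algebra.Etale C (A k) := fun k => RingHom.etale_algebraMap.1 (hψ k)
  let e : ∀ k, C' →ₐ[R] C' ⊗[C] A k := fun k => IsScalarTower.toAlgHom R C' _
  have hee : ∀ k, Etale (specMap (e k)).left := fun k => etale_specMap (RingHom.etale_algebraMap.2 inferInstance)
  refine ASp.hom_ext_fppf (U := fun k => specOver R (C' ⊗[C] A k)) (c := fun k => specMap (e k))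
    (fun k => by haveI := hee k; infer_instance) (fun k => by haveI := hee k; infer_instance)
    (fun q => ?_) fun k => ?_
  · obtain ⟨k, Q, hQ⟩ := hsurj (PrimeSpectrum.comap (algebraMap C C') q)
    obtain ⟨w, hw, -⟩ := Scheme.exists_preimage_of_isPullback
      (isPullback_SpecMap_of_isPushout _ _ _ _ (CommRingCat.isPushout_tensorProduct C C' (A k))) q Q
      (show PrimeSpectrum.comap (algebraMap C C') q = _ from hQ.symm)
    exact ⟨k, w, hw⟩
  · refine h k _ ((Algebra.TensorProduct.includeRight : A k →ₐ[C] _).restrictScalars R) (e k) (AlgHom.ext fun c => ?_)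
    show (Algebra.TensorProduct.includeRight : A k →ₐ[C] C' ⊗[C] A k) (algebraMap C (A k) c) =
      (Algebra.TensorProduct.includeLeft : C' →ₐ[C] C' ⊗[C] A k) (algebraMap C C' c)
    rw [AlgHom.commutes, AlgHom.commutes]

/-- Maps from `Spec C` to a space with affine diagonal glue. -/
theorem exists_glue (hRR' : EtGlue.IsGlueingPair R R' f) {Z : Space (Spec (CommRingCat.of R))}
    (hZd : IsAffineMor (Limits.diag Z.obj)) (hC : EtGlueable R R' f C)
    (α' : (yon _).obj (specOver R (C ⊗[R] R')) ⟶ Z.obj)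
    (αt : (yon _).obj (specOver R (Localization.Away (algebraMap R C f))) ⟶ Z.obj) (hcompat : Compat α' αt) :
    ∃ α : (yon _).obj (specOver R C) ⟶ Z.obj,
      (yon _).map (specMap (Algebra.TensorProduct.includeLeft : C →ₐ[R] C ⊗[R] R')) ≫ α = α' ∧
      (yon _).map (specMap (IsScalarTower.toAlgHom R C (Localization.Away (algebraMap R C f)))) ≫ α = αt := by
  classical
  let C' := C ⊗[R] R'
  let t := algebraMap R C f
  let Ct := Localization.Away t
  let i' : C →ₐ[R] C' := Algebra.TensorProduct.includeLeft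
  let it : C →ₐ[R] Ct := IsScalarTower.toAlgHom R C Ct
  obtain ⟨κ, D, _, _, h, hh, hcov⟩ := exists_affine_charts Z
  choose A instA instRA ψ x hψ hag hp' hpt using fun k => exists_glued_chart hRR' hZd hC hcompat (hh k)
  have hid : Etale (specMap (AlgHom.id R C)).left := by
    show Etale (Spec.map (CommRingCat.ofHom (RingHom.id C)))
    rw [show CommRingCat.ofHom (RingHom.id C) = 𝟙 _ from rfl, Spec.map_id]
    infer_instance
  have hpair : EtGlue.IsGlueingPair C C' t := GluePairLib.isGlueingPair_baseChange C hRR' (hC C (AlgHom.id R C) hid)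
  have hsurj : ∀ P : PrimeSpectrum C, ∃ k, P ∈ Set.range (specMap (ψ k)).left := by
    intro P
    rcases GluePairLib.exists_prime_over (algebraMap C C') t (quotMap_bijective hpair) P with ⟨q, hq⟩ | ⟨q, hq⟩
    · obtain ⟨k, hk⟩ := hcov (Points.map α' (Points.schemeHomeo (specOver R C') q))
      obtain ⟨Ω, _, _, p, ψ', hker, e⟩ := exists_field_point (hh k) hZd α' q hk
      obtain ⟨θ, hθ⟩ := hp' k Ω p ψ' e
      refine ⟨k, ⟨RingHom.ker θ.toRingHom, RingHom.ker_isPrime _⟩, PrimeSpectrum.ext ?_⟩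
      show (RingHom.ker θ.toRingHom).comap (ψ k).toRingHom = P.asIdeal
      rw [RingHom.comap_ker, ← hq]
      show RingHom.ker (θ.comp (ψ k)).toRingHom = q.asIdeal.comap (algebraMap C C')
      rw [hθ, ← hker, RingHom.comap_ker]
      rfl
    · obtain ⟨k, hk⟩ := hcov (Points.map αt (Points.schemeHomeo (specOver R Ct) q))
      obtain ⟨Ω, _, _, p, ψt, hker, e⟩ := exists_field_point (hh k) hZd αt q hk
      obtain ⟨θ, hθ⟩ := hpt k Ω p ψt e
      refine ⟨k, ⟨RingHom.ker θ.toRingHom, RingHom.ker_isPrime _⟩, PrimeSpectrum.ext ?_⟩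
      show (RingHom.ker θ.toRingHom).comap (ψ k).toRingHom = P.asIdeal
      rw [RingHom.comap_ker, ← hq]
      show RingHom.ker (θ.comp (ψ k)).toRingHom = q.asIdeal.comap (algebraMap C Ct)
      rw [hθ, ← hker, RingHom.comap_ker]
      rfl
  have he : ∀ k, Etale (specMap (ψ k)).left := fun k => etale_specMap (hψ k)
  have hx : ∀ (i j : κ) (W : Over (Spec (CommRingCat.of R))) (gi : W ⟶ specOver R (A i)) (gj : W ⟶ specOver R (A j)),
      gi ≫ specMap (ψ i) = gj ≫ specMap (ψ j) → (yon _).map gi ≫ x i = (yon _).map gj ≫ x j :=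
    fun i j W gi gj e => agree_overlap hRR' hC (hψ i) (hψ j) (hag i) (hag j) W gi gj e
  obtain ⟨α, hα, -⟩ := ASp.existsUnique_glue (T := specOver R C) (U := fun k => specOver R (A k))
    (c := fun k => specMap (ψ k)) (fun k => by haveI := he k; infer_instance)
    (fun k => by haveI := he k; infer_instance) (fun P => by obtain ⟨k, hk⟩ := hsurj P; exact ⟨k, hk⟩) x hx
  refine ⟨α, ext_of_charts hψ hsurj i' fun k B _ _ θ ψ' e => ?_,
    ext_of_charts hψ hsurj it fun k B _ _ θ ψt e => ?_⟩
  · rw [map_comp_map, ← e, ← map_comp_map, hα k]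
    exact (hag k).1 _ θ ψ' e
  · rw [map_comp_map, ← e, ← map_comp_map, hα k]
    exact (hag k).2 _ θ ψt e

end Groth.Agent.GlueEqLib

end
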