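import Groth.Agent.GlueEqLib.Chart
import Groth.Agent.GluePairLib.GlueAlgebra
import Groth.Agent.S10724
import Groth.Agent.S2005

/-! Maps from an affine scheme to a space with affine diagonal glue along glueing pairs. -/

set_option autoImplicit false
set_option linter.style.haveILetI false
set_option backward.isDefEq.respectTransparency false
set_option backward.isDefEq.respectTransparency.types false
set_option maxHeartbeats 3200000

universe u

open CategoryTheory CategoryTheory.Limits AlgebraicGeometry TensorProduct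

noncomputable section

namespace Groth.Agent.GlueEqLib

open _root_.AlgSp Groth.Agent.AlgSpGlue

variable {R R' : Type u} [CommRing R] [CommRing R'] [Algebra R R'] {f : R}
variable {C : Type u} [CommRing C] [Algebra R C]

/-- `x` restricts to `α'` and to `αt`. -/
def Agrees {Z : Sp (Spec (CommRingCat.of R))}
    (α' : (yon _).obj (specOver R (C ⊗[R] R')) ⟶ Z)
    (αt : (yon _).obj (specOver R (Localization.Away (algebraMap R C f))) ⟶ Z)
    {A : Type u} [CommRing A] [Algebra R A] (ψ : C →ₐ[R] A) (x : (yon _).obj (specOver R A) ⟶ Z) : Prop :=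
  (∀ (B : Type u) [CommRing B] [Algebra R B] (θ : A →ₐ[R] B) (ψ' : C ⊗[R] R' →ₐ[R] B),
      θ.comp ψ = ψ'.comp (Algebra.TensorProduct.includeLeft : C →ₐ[R] C ⊗[R] R') →
        (yon _).map (specMap θ) ≫ x = (yon _).map (specMap ψ') ≫ α') ∧
    ∀ (B : Type u) [CommRing B] [Algebra R B] (θ : A →ₐ[R] B)
      (ψt : Localization.Away (algebraMap R C f) →ₐ[R] B),
      θ.comp ψ = ψt.comp (IsScalarTower.toAlgHom R C _) → (yon _).map (specMap θ) ≫ x = (yon _).map (specMap ψt) ≫ αt

/-- The two maps agree on the overlap. -/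
def Compat {Z : Sp (Spec (CommRingCat.of R))}
    (α' : (yon _).obj (specOver R (C ⊗[R] R')) ⟶ Z)
    (αt : (yon _).obj (specOver R (Localization.Away (algebraMap R C f))) ⟶ Z) : Prop :=
  ∀ (B : Type u) [CommRing B] [Algebra R B] (ψ' : C ⊗[R] R' →ₐ[R] B)
    (ψt : Localization.Away (algebraMap R C f) →ₐ[R] B),
    ψ'.comp (Algebra.TensorProduct.includeLeft : C →ₐ[R] C ⊗[R] R') = ψt.comp (IsScalarTower.toAlgHom R C _) →
      (yon _).map (specMap ψ') ≫ α' = (yon _).map (specMap ψt) ≫ αt

/-- A ring is glueable over itself for a glueing pair. -/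
theorem isGlueable_self {C C' : Type u} [CommRing C] [CommRing C'] [Algebra C C'] {t : C}
    (h : EtGlue.IsGlueingPair C C' t) : EtGlue.IsGlueable C C' t C := by
  refine ((Groth.Agent.S2005.result C C' t h.1 C).2 h).2 fun m hm h0 => ?_
  obtain ⟨n, hn⟩ := hm
  have h1 : algebraMap C C' m = 0 := by
    have := congrArg (Algebra.TensorProduct.rid C C C') h0
    simpa [Algebra.smul_def] using this
  refine (existsUnique_torsion h 0 ⟨0, by simp⟩).unique ⟨⟨n, by simpa [smul_eq_mul] using hn⟩, h1⟩
    ⟨⟨0, by simp⟩, map_zero _⟩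

/-- One étale chart of `Z` glues to an étale chart of `Spec C`. -/
theorem exists_glued_chart (hRR' : EtGlue.IsGlueingPair R R' f) {Z : Sp (Spec (CommRingCat.of R))}
    (hZd : IsAffineMor (Limits.diag Z)) (hC : EtGlueable R R' f C)
    {α' : (yon _).obj (specOver R (C ⊗[R] R')) ⟶ Z}
    {αt : (yon _).obj (specOver R (Localization.Away (algebraMap R C f))) ⟶ Z} (hcompat : Compat α' αt)
    {D : Type u} [CommRing D] [Algebra R D] {h : (yon _).obj (specOver R D) ⟶ Z} (hh : RepWith @Etale h) :
    ∃ (A : Type u) (_ : CommRing A) (_ : Algebra R A) (ψ : C →ₐ[R] A) (x : (yon _).obj (specOver R A) ⟶ Z),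
      ψ.toRingHom.Etale ∧ Agrees α' αt ψ x ∧
      (∀ (Ω : Type u) [Field Ω] [Algebra R Ω] (p : D →ₐ[R] Ω) (ψ' : C ⊗[R] R' →ₐ[R] Ω),
        (yon _).map (specMap p) ≫ h = (yon _).map (specMap ψ') ≫ α' →
          ∃ θ : A →ₐ[R] Ω, θ.comp ψ = ψ'.comp (Algebra.TensorProduct.includeLeft : C →ₐ[R] C ⊗[R] R')) ∧
      ∀ (Ω : Type u) [Field Ω] [Algebra R Ω] (p : D →ₐ[R] Ω) (ψt : Localization.Away (algebraMap R C f) →ₐ[R] Ω),
        (yon _).map (specMap p) ≫ h = (yon _).map (specMap ψt) ≫ αt →
          ∃ θ : A →ₐ[R] Ω, θ.comp ψ = ψt.comp (IsScalarTower.toAlgHom R C _) := by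
  classical
  let C' := C ⊗[R] R'
  let t := algebraMap R C f
  let Ct := Localization.Away t
  obtain ⟨A', _, _, φ', x', hφ', hP'⟩ := exists_chart_pullback hZd hh α'
  obtain ⟨A₁, _, _, φt, xt, hφt, hPt⟩ := exists_chart_pullback hZd hh αt
  letI : Algebra C' A' := φ'.toRingHom.toAlgebra
  letI : Algebra C A' := ((algebraMap C' A').comp (algebraMap C C')).toAlgebra
  haveI : IsScalarTower C C' A' := IsScalarTower.of_algebraMap_eq fun _ => rfl
  haveI : IsScalarTower R C' A' := IsScalarTower.of_algebraMap_eq fun r => (φ'.commutes r).symm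
  haveI : IsScalarTower R C A' := IsScalarTower.of_algebraMap_eq fun r => by
    show _ = algebraMap C' A' (algebraMap C C' (algebraMap R C r))
    rw [← IsScalarTower.algebraMap_apply R C C', ← IsScalarTower.algebraMap_apply R C' A']
  letI : Algebra Ct A₁ := φt.toRingHom.toAlgebra
  letI : Algebra C A₁ := ((algebraMap Ct A₁).comp (algebraMap C Ct)).toAlgebra
  haveI : IsScalarTower C Ct A₁ := IsScalarTower.of_algebraMap_eq fun _ => rfl
  haveI : IsScalarTower R C A₁ := IsScalarTower.of_algebraMap_eq fun r => by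
    show _ = φt (algebraMap C Ct (algebraMap R C r))
    rw [← IsScalarTower.algebraMap_apply R C Ct, φt.commutes]
  have h1 : IsUnit (algebraMap C A₁ t) := (IsLocalization.Away.algebraMap_isUnit (S := Ct) t).map (algebraMap Ct A₁)
  let T := C' ⊗[C] A₁
  let iR : A₁ →ₐ[R] T := (Algebra.TensorProduct.includeRight : A₁ →ₐ[C] T).restrictScalars R
  let iL : C' →ₐ[R] T := (Algebra.TensorProduct.includeLeft : C' →ₐ[C] T).restrictScalars R
  have hiT : iL.comp (Algebra.TensorProduct.includeLeft : C →ₐ[R] C') =
      (iR.comp φt).comp (IsScalarTower.toAlgHom R C Ct) := by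
    ext c
    show (Algebra.TensorProduct.includeLeft : C' →ₐ[C] T) (algebraMap C C' c) =
      (Algebra.TensorProduct.includeRight : A₁ →ₐ[C] T) (algebraMap C A₁ c)
    rw [AlgHom.commutes, AlgHom.commutes]
  obtain ⟨f1, hf1a, hf1b⟩ : ∃ f1 : A' →ₐ[R] T, f1.comp φ' = iL ∧ f1.comp x' = iR.comp xt := by
    have hh2 : (yon _).map (specMap (iR.comp xt)) ≫ h = (yon _).map (specMap iL) ≫ α' := by
      rw [hcompat T iL (iR.comp φt) hiT, ← map_comp_map, hPt.w, map_comp_map]
    obtain ⟨l, hl⟩ := (yon _).map_surjective (hP'.lift _ _ hh2)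
    obtain ⟨f1, rfl⟩ := specMap_surjective l
    exact ⟨f1, specMap_injective ((yon _).map_injective (by rw [← specMap_comp, Functor.map_comp, hl, hP'.lift_snd])),
      specMap_injective ((yon _).map_injective (by rw [← specMap_comp, Functor.map_comp, hl, hP'.lift_fst]))⟩
  let L := Localization.Away (algebraMap C A' t)
  let ψtL : Ct →ₐ[R] L :=
    { Localization.awayMap (algebraMap C A') t with
      commutes' := fun r => by
        show Localization.awayMap (algebraMap C A') t (algebraMap R Ct r) = _
        rw [IsScalarTower.algebraMap_apply R C Ct]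
        exact (show Localization.awayMap (algebraMap C A') t
          (algebraMap C Ct (algebraMap R C r)) = algebraMap A' L (algebraMap C A' (algebraMap R C r)) from
          IsLocalization.map_eq _ _).trans ((congrArg (algebraMap A' L)
            (IsScalarTower.algebraMap_apply R C A' r).symm).trans (IsScalarTower.algebraMap_apply R A' L r).symm) }
  obtain ⟨g, hga, hgb⟩ : ∃ g : A₁ →ₐ[R] L, g.comp φt = ψtL ∧
      g.comp xt = (IsScalarTower.toAlgHom R A' L).comp x' := by
    have hh2 : (yon _).map (specMap ((IsScalarTower.toAlgHom R A' L).comp x')) ≫ h =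
        (yon _).map (specMap ψtL) ≫ αt := by
      rw [← map_comp_map, hP'.w, map_comp_map]
      refine hcompat L _ _ ?_
      ext c
      show algebraMap A' L (algebraMap C A' c) = Localization.awayMap (algebraMap C A') t (algebraMap C Ct c)
      exact (IsLocalization.map_eq _ c).symm
    obtain ⟨l, hl⟩ := (yon _).map_surjective (hPt.lift _ _ hh2)
    obtain ⟨g, rfl⟩ := specMap_surjective l
    exact ⟨g, specMap_injective ((yon _).map_injective (by rw [← specMap_comp, Functor.map_comp, hl, hPt.lift_snd])),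
      specMap_injective ((yon _).map_injective (by rw [← specMap_comp, Functor.map_comp, hl, hPt.lift_fst]))⟩
  let F1 : A' →ₐ[C'] T := { f1.toRingHom with commutes' := fun c => AlgHom.congr_fun hf1a c }
  let gC : A₁ →ₐ[C] L :=
    { g.toRingHom with
      commutes' := fun c => by
        show g (φt (algebraMap C Ct c)) = _
        rw [← AlgHom.comp_apply, hga, IsScalarTower.algebraMap_apply C A' L]
        exact (IsLocalization.map_eq _ c : Localization.awayMap (algebraMap C A') t (algebraMap C Ct c) = _) }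
  have hu : ∀ y : Submonoid.powers (algebraMap C A' t), IsUnit (F1 y) := by
    rintro ⟨_, n, rfl⟩
    show IsUnit (F1 (algebraMap C A' t ^ n))
    rw [map_pow, IsScalarTower.algebraMap_apply C C' A', F1.commutes, ← IsScalarTower.algebraMap_apply C C' T]
    refine IsUnit.pow n ?_
    rw [← (Algebra.TensorProduct.includeRight : A₁ →ₐ[C] T).commutes]
    exact h1.map _
  let toT : L →ₐ[C'] T := IsLocalization.liftAlgHom hu
  let toL : T →ₐ[C'] L := Algebra.TensorProduct.lift (Algebra.ofId C' L) gC fun _ _ => Commute.all _ _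
  have hLA : ∀ a : A', toT (algebraMap A' L a) = f1 a := fun a => IsLocalization.lift_eq _ _
  have hTA : ∀ y : A₁, toL ((1 : C') ⊗ₜ[C] y) = g y := fun y => by
    show Algebra.ofId C' L 1 * gC y = g y
    rw [map_one, one_mul]
    rfl
  have key1 : ∀ y : A₁, toT (g y) = (1 : C') ⊗ₜ[C] y := by
    have e : ((toT.restrictScalars R).comp g) = iR := by
      apply specMap_injective
      apply (yon _).map_injective
      apply hPt.hom_ext <;> rw [← Functor.map_comp, ← Functor.map_comp, specMap_comp, specMap_comp]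
      · congr 2
        rw [AlgHom.comp_assoc, hgb, ← hf1b]
        exact AlgHom.ext fun d => hLA (x' d)
      · congr 2
        rw [AlgHom.comp_assoc, hga]
        apply AlgHom.coe_ringHom_injective
        refine IsLocalization.ringHom_ext (Submonoid.powers t) (RingHom.ext fun c => ?_)
        show toT (ψtL (algebraMap C Ct c)) = iR (φt (algebraMap C Ct c))
        have e : ψtL (algebraMap C Ct c) = algebraMap A' L (algebraMap C A' c) :=
          (IsLocalization.map_eq _ c : Localization.awayMap (algebraMap C A') t (algebraMap C Ct c) = _)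
        rw [e, hLA]
        have := AlgHom.congr_fun hf1a (algebraMap C C' c)
        exact this.trans (AlgHom.congr_fun hiT c)
    exact fun y => AlgHom.congr_fun e y
  have key2 : ∀ a : A', toL (f1 a) = algebraMap A' L a := by
    have e : ((toL.restrictScalars R).comp f1) = IsScalarTower.toAlgHom R A' L := by
      apply specMap_injective
      apply (yon _).map_injective
      apply hP'.hom_ext <;> rw [← Functor.map_comp, ← Functor.map_comp, specMap_comp, specMap_comp]
      · congr 2
        rw [AlgHom.comp_assoc, hf1b, ← hgb]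
        exact AlgHom.ext fun d => hTA (xt d)
      · congr 2
        rw [AlgHom.comp_assoc, hf1a]
        refine AlgHom.ext fun c => ?_
        show toL (c ⊗ₜ[C] (1 : A₁)) = algebraMap A' L (algebraMap C' A' c)
        rw [← IsScalarTower.algebraMap_apply C' A' L]
        exact toL.commutes c
    exact fun a => AlgHom.congr_fun e a
  let φiso : L ≃ₐ[C'] T := AlgEquiv.ofAlgHom toT toL
    (Algebra.TensorProduct.ext (AlgHom.ext fun c => by
        show toT (toL (algebraMap C' T c)) = algebraMap C' T c
        rw [toL.commutes, toT.commutes])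
      (AlgHom.ext fun y => by
        show toT (toL ((1 : C') ⊗ₜ[C] y)) = (1 : C') ⊗ₜ[C] y
        rw [hTA, key1]))
    (IsLocalization.algHom_ext (Submonoid.powers (algebraMap C A' t)) (AlgHom.ext fun a => by
        show toL (toT (algebraMap A' L a)) = algebraMap A' L a
        rw [hLA, key2]))
  have hpair : EtGlue.IsGlueingPair C C' t :=
    GluePairLib.isGlueingPair_baseChange C hRR' (hC C (AlgHom.id R C) (by
      show Etale (Spec.map (CommRingCat.ofHom (RingHom.id C)))
      rw [show CommRingCat.ofHom (RingHom.id C) = 𝟙 _ from rfl, Spec.map_id]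
      infer_instance))
  let A := GluePairLib.glue φiso
  haveI hloc := GluePairLib.glueSnd_localization φiso h1
  letI : Algebra A A₁ := (GluePairLib.glueSnd φiso).toRingHom.toAlgebra
  haveI : IsScalarTower C A A₁ :=
    IsScalarTower.of_algebraMap_eq fun r => ((GluePairLib.glueSnd φiso).commutes r).symm
  haveI : IsLocalization (Submonoid.powers (algebraMap C A t)) A₁ := by
    have h : IsLocalizedModule (Submonoid.powers t) (IsScalarTower.toAlgHom C A A₁).toLinearMap := hloc
    rw [isLocalizedModule_iff_isLocalization, Algebra.algebraMapSubmonoid, Submonoid.map_powers] at h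
    exact h
  let e' : C' ⊗[C] A ≃ₐ[C'] A' := AlgEquiv.ofBijective (GluePairLib.glueLift φiso)
    ⟨GluePairLib.glueLift_injective φiso h1 hpair, GluePairLib.glueLift_surjective φiso h1 hpair.1⟩
  let ψ : C →ₐ[R] A := IsScalarTower.toAlgHom R C A
  have hψ : ψ.toRingHom.Etale := by
    show (Algebra.ofId C A).toRingHom.Etale
    refine (Groth.Agent.S10724.result C C' t hpair C A (isGlueable_self hpair)
      (GluePairLib.isGlueable_glue φiso h1 hpair) (Algebra.ofId C A)).2 ⟨?_, ?_⟩
    · let e₁ : Localization.Away (algebraMap C A t) ≃ₐ[A] A₁ :=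
        IsLocalization.algEquiv (Submonoid.powers (algebraMap C A t)) _ A₁
      have he : Localization.awayMap (Algebra.ofId C A).toRingHom (algebraMap C C t) =
          e₁.symm.toRingEquiv.toRingHom.comp φt.toRingHom := by
        refine IsLocalization.ringHom_ext (Submonoid.powers t) (RingHom.ext fun c => ?_)
        show Localization.awayMap (Algebra.ofId C A).toRingHom t (algebraMap C Ct c) = e₁.symm (algebraMap C A₁ c)
        rw [IsScalarTower.algebraMap_apply C A A₁, AlgEquiv.commutes]
        exact IsLocalization.map_eq _ c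
      rw [he]
      exact RingHom.Etale.respectsIso.1 _ _ hφt
    · have he : (Algebra.TensorProduct.map (AlgHom.id C C') (Algebra.ofId C A)).toRingHom =
          e'.symm.toRingEquiv.toRingHom.comp
            (φ'.toRingHom.comp (Algebra.TensorProduct.rid C C' C').toRingEquiv.toRingHom) := by
        refine RingHom.ext fun z => ?_
        induction z using TensorProduct.induction_on with
        | zero => simp
        | add a b ha hb => rw [map_add, map_add, ha, hb]
        | tmul r c =>
          show r ⊗ₜ[C] algebraMap C A c = e'.symm (algebraMap C' A' (Algebra.TensorProduct.rid C C' C' (r ⊗ₜ[C] c)))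
          rw [AlgEquiv.commutes, Algebra.TensorProduct.rid_tmul, Algebra.TensorProduct.algebraMap_apply,
            Algebra.algebraMap_self, RingHom.id_apply, TensorProduct.smul_tmul, Algebra.smul_def, mul_one]
      rw [he]
      exact RingHom.Etale.respectsIso.1 _ _ (RingHom.Etale.respectsIso.2 _ _ hφ')
  let u : D →ₐ[R] A := AlgHom.codRestrict (x'.prod xt) ((GluePairLib.glue φiso).restrictScalars R) fun d => by
    show GluePairLib.toTensor φiso (x' d) = (1 : C') ⊗ₜ[C] xt d
    show φiso (algebraMap A' L (x' d)) = _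
    show toT (algebraMap A' L (x' d)) = _
    rw [hLA]
    exact AlgHom.congr_fun hf1b d
  have ext' : ∀ (B : Type u) [CommRing B] [Algebra R B] (θ : A →ₐ[R] B) (ψ' : C' →ₐ[R] B),
      θ.comp ψ = ψ'.comp (Algebra.TensorProduct.includeLeft : C →ₐ[R] C') →
        ∃ θ' : A' →ₐ[R] B, θ'.comp φ' = ψ' ∧ θ'.comp x' = θ.comp u := by
    intro B _ _ θ ψ' hθ
    letI : Algebra C' B := ψ'.toRingHom.toAlgebra
    letI : Algebra C B := ((algebraMap C' B).comp (algebraMap C C')).toAlgebra
    haveI : IsScalarTower C C' B := IsScalarTower.of_algebraMap_eq fun _ => rfl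
    let θC : A →ₐ[C] B := { θ.toRingHom with commutes' := fun c => AlgHom.congr_fun hθ c }
    let Θ : C' ⊗[C] A →ₐ[C'] B := Algebra.TensorProduct.lift (Algebra.ofId C' B) θC fun _ _ => Commute.all _ _
    let θ' : A' →ₐ[C'] B := Θ.comp e'.symm.toAlgHom
    refine ⟨{ θ'.toRingHom with commutes' := fun r => ?_ }, AlgHom.ext fun c => θ'.commutes c, AlgHom.ext fun d => ?_⟩
    · show θ' (algebraMap R A' r) = _
      rw [IsScalarTower.algebraMap_apply R C' A', θ'.commutes]
      exact ψ'.commutes r
    · show Θ (e'.symm (x' d)) = θ (u d)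
      rw [show x' d = e' ((1 : C') ⊗ₜ[C] u d) from (GluePairLib.glueLift_one_tmul φiso (u d)).symm,
        AlgEquiv.symm_apply_apply]
      show Algebra.ofId C' B 1 * θ (u d) = _
      rw [map_one, one_mul]
  have extt : ∀ (B : Type u) [CommRing B] [Algebra R B] (θ : A →ₐ[R] B) (ψt : Ct →ₐ[R] B),
      θ.comp ψ = ψt.comp (IsScalarTower.toAlgHom R C Ct) →
        ∃ θt : A₁ →ₐ[R] B, θt.comp φt = ψt ∧ θt.comp xt = θ.comp u := by
    intro B _ _ θ ψt hθ
    have hu' : ∀ y : Submonoid.powers (algebraMap C A t), IsUnit (θ.toRingHom y) := by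
      rintro ⟨_, n, rfl⟩
      show IsUnit (θ (algebraMap C A t ^ n))
      rw [map_pow, show θ (algebraMap C A t) = ψt (algebraMap C Ct t) from AlgHom.congr_fun hθ t]
      exact ((IsLocalization.Away.algebraMap_isUnit t).map ψt).pow n
    let θ₁ : A₁ →+* B := IsLocalization.lift hu'
    have h2 : ∀ a : A, θ₁ (algebraMap A A₁ a) = θ a := fun a => IsLocalization.lift_eq _ _
    have hC1 : ∀ c : C, θ₁ (algebraMap C A₁ c) = ψt (algebraMap C Ct c) := fun c => by
      rw [IsScalarTower.algebraMap_apply C A A₁, h2]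
      exact AlgHom.congr_fun hθ c
    refine ⟨{ θ₁ with commutes' := fun r => ?_ }, ?_, AlgHom.ext fun d => h2 (u d)⟩
    · show θ₁ (algebraMap R A₁ r) = _
      rw [IsScalarTower.algebraMap_apply R C A₁, hC1, ← IsScalarTower.algebraMap_apply R C Ct, ψt.commutes]
    · apply AlgHom.coe_ringHom_injective
      exact IsLocalization.ringHom_ext (Submonoid.powers t) (RingHom.ext hC1)
  let pA' : A →ₐ[R] A' := ((AlgHom.fst C A' A₁).comp (GluePairLib.glue φiso).val).restrictScalars R
  let pAt : A →ₐ[R] A₁ := ((AlgHom.snd C A' A₁).comp (GluePairLib.glue φiso).val).restrictScalars R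
  refine ⟨A, inferInstance, inferInstance, ψ, (yon _).map (specMap u) ≫ h, hψ,
    ⟨fun B _ _ θ ψ' hθ => ?_, fun B _ _ θ ψt hθ => ?_⟩, fun Ω _ _ p ψ' hp => ?_, fun Ω _ _ p ψt hp => ?_⟩
  · obtain ⟨θ', e1, e2⟩ := ext' B θ ψ' hθ
    rw [map_comp_map, ← e2, ← map_comp_map, hP'.w, map_comp_map, e1]
  · obtain ⟨θt, e1, e2⟩ := extt B θ ψt hθ
    rw [map_comp_map, ← e2, ← map_comp_map, hPt.w, map_comp_map, e1]
  · obtain ⟨l, hl⟩ := (yon _).map_surjective (hP'.lift _ _ hp)
    obtain ⟨θ', rfl⟩ := specMap_surjective l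
    have e : θ'.comp φ' = ψ' :=
      specMap_injective ((yon _).map_injective (by rw [← specMap_comp, Functor.map_comp, hl, hP'.lift_snd]))
    exact ⟨θ'.comp pA', AlgHom.ext fun c => AlgHom.congr_fun e (algebraMap C C' c)⟩
  · obtain ⟨l, hl⟩ := (yon _).map_surjective (hPt.lift _ _ hp)
    obtain ⟨θt, rfl⟩ := specMap_surjective l
    have e : θt.comp φt = ψt :=
      specMap_injective ((yon _).map_injective (by rw [← specMap_comp, Functor.map_comp, hl, hPt.lift_snd]))
    exact ⟨θt.comp pAt, AlgHom.ext fun c => AlgHom.congr_fun e (algebraMap C Ct c)⟩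

end Groth.Agent.GlueEqLib

end
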