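import Groth.Agent.GluePairLib.Main
import Groth.Agent.GluePairLib.BaseChange

/-! A monomorphism to `Spec A` which has sections over both pieces of a glueing pair is an isomorphism,
as soon as the principal localisations of `A` are glueable. -/

set_option autoImplicit false
set_option linter.style.haveILetI false
set_option maxHeartbeats 1600000
set_option backward.isDefEq.respectTransparency false
set_option backward.isDefEq.respectTransparency.types false

universe u

open CategoryTheory CategoryTheory.Limits AlgebraicGeometry TensorProduct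

namespace Groth.Agent.GlueEqLib

section Ring

variable {A A' : Type u} [CommRing A] [CommRing A'] (φ : A →+* A') (t : A)

/-- Elements of an extended ideal are congruent to elements of the ideal modulo powers of `t`. -/
theorem exists_congr_of_mem_map
    (hq : ∀ m : ℕ, Function.Bijective (Ideal.quotientMap (Ideal.map φ (Ideal.span {t} ^ m)) φ Ideal.le_comap_map))
    (I : Ideal A) (L : ℕ) {x : A'} (hx : x ∈ I.map φ) : ∃ i ∈ I, ∃ z : A', x = φ i + φ t ^ L * z := by
  induction hx using Submodule.span_induction with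
  | mem y hy => obtain ⟨i, hi, rfl⟩ := hy; exact ⟨i, hi, 0, by simp⟩
  | zero => exact ⟨0, I.zero_mem, 0, by simp⟩
  | add a b _ _ ha hb =>
    obtain ⟨i, hi, z, rfl⟩ := ha
    obtain ⟨j, hj, w, rfl⟩ := hb
    exact ⟨i + j, I.add_mem hi hj, z + w, by rw [map_add]; ring⟩
  | smul c a _ ha =>
    obtain ⟨i, hi, z, rfl⟩ := ha
    obtain ⟨r, hr⟩ := (hq L).2 (Ideal.Quotient.mk _ c)
    obtain ⟨r, rfl⟩ := Ideal.Quotient.mk_surjective r
    rw [Ideal.quotientMap_mk, Ideal.Quotient.eq, Ideal.map_pow, Ideal.map_span, Set.image_singleton,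
      Ideal.span_singleton_pow, Ideal.mem_span_singleton'] at hr
    obtain ⟨s, hs⟩ := hr
    refine ⟨r * i, I.mul_mem_left r hi, c * z - s * φ i, ?_⟩
    have hc : c = φ r - s * φ t ^ L := by rw [hs]; ring
    rw [smul_eq_mul, map_mul, hc]
    ring

/-- If a closed subset of `Spec A_t` and one of `Spec A'` agree over `A'_t` and the second avoids a
neighbourhood of `P ∈ V(t)`, then a neighbourhood of `P` avoids both. -/
theorem exists_avoid
    (hq : ∀ m : ℕ, Function.Bijective (Ideal.quotientMap (Ideal.map φ (Ideal.span {t} ^ m)) φ Ideal.le_comap_map))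
    (htor : ∀ a' : A', (∃ m : ℕ, φ t ^ m * a' = 0) → ∃! a : A, (∃ m : ℕ, t ^ m * a = 0) ∧ φ a = a')
    (J : Ideal (Localization.Away t)) (K : Ideal A')
    (hJK : (PrimeSpectrum.zeroLocus (J.map (Localization.awayMap φ t) : Set (Localization.Away (φ t)))) =
      PrimeSpectrum.zeroLocus (K.map (algebraMap A' (Localization.Away (φ t))) : Set (Localization.Away (φ t))))
    (P : PrimeSpectrum A) (htP : t ∈ P.asIdeal) (s : A) (hs : s ∉ P.asIdeal)
    (hsK : ∀ q : PrimeSpectrum A', φ t ∈ q.asIdeal → K ≤ q.asIdeal → φ s ∈ q.asIdeal) :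
    ∃ a : A, a ∉ P.asIdeal ∧ algebraMap A (Localization.Away t) a ∈ J ∧
      ∀ q : PrimeSpectrum A', φ t ∈ q.asIdeal → K ≤ q.asIdeal → φ a ∈ q.asIdeal := by
  have h1 : φ s ∈ (K ⊔ Ideal.span {φ t}).radical := by
    rw [Ideal.radical_eq_sInf, Submodule.mem_sInf]
    rintro q ⟨hq1, hq2⟩
    exact hsK ⟨q, hq2⟩ (hq1 (Ideal.mem_sup_right (Ideal.mem_span_singleton_self _))) (le_sup_left.trans hq1)
  obtain ⟨N, hN⟩ := h1
  obtain ⟨k, hk, y, hy, hky⟩ := Submodule.mem_sup.1 hN
  obtain ⟨x, rfl⟩ := Ideal.mem_span_singleton'.1 hy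
  let I : Ideal A := J.comap (algebraMap A (Localization.Away t))
  have hmap : (I.map φ).map (algebraMap A' (Localization.Away (φ t))) = J.map (Localization.awayMap φ t) := by
    rw [← IsLocalization.map_under (Submonoid.powers t) (Localization.Away t) J, Ideal.map_map, Ideal.map_map]
    congr 1
    exact (IsLocalization.map_comp _).symm
  obtain ⟨M₀, hM₀⟩ : algebraMap A' (Localization.Away (φ t)) k ∈ (J.map (Localization.awayMap φ t)).radical := by
    rw [Ideal.radical_eq_sInf, Submodule.mem_sInf]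
    rintro q ⟨hq1, hq2⟩
    have : (⟨q, hq2⟩ : PrimeSpectrum (Localization.Away (φ t))) ∈
        PrimeSpectrum.zeroLocus (K.map (algebraMap A' (Localization.Away (φ t))) : Set (Localization.Away (φ t))) :=
      hJK ▸ hq1
    exact this (Ideal.mem_map_of_mem _ hk)
  set M := M₀ + 1 with hMdef
  have hM : algebraMap A' (Localization.Away (φ t)) k ^ M ∈ J.map (Localization.awayMap φ t) := by
    rw [hMdef, pow_succ]
    exact Ideal.mul_mem_right _ _ hM₀
  rw [← map_pow, ← hmap, IsLocalization.algebraMap_mem_map_algebraMap_iff (Submonoid.powers (φ t))] at hM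
  obtain ⟨_, ⟨T, rfl⟩, hT⟩ := hM
  obtain ⟨i, hi, z, hiz⟩ := exists_congr_of_mem_map φ t hq I (T + 1) hT
  obtain ⟨β, rfl⟩ : ∃ β, i = t ^ T * β := by
    have hmem : i ∈ Ideal.span {t} ^ T := by
      rw [← Ideal.Quotient.eq_zero_iff_mem]
      apply (hq T).1
      rw [map_zero, Ideal.quotientMap_mk, Ideal.Quotient.eq_zero_iff_mem, Ideal.map_pow, Ideal.map_span,
        Set.image_singleton, Ideal.span_singleton_pow, Ideal.mem_span_singleton']
      refine ⟨k ^ M - φ t * z, ?_⟩
      simp only at hiz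
      rw [sub_mul, mul_comm (k ^ M), hiz]
      ring
    rw [Ideal.span_singleton_pow, Ideal.mem_span_singleton] at hmem
    exact hmem
  simp only at hiz
  obtain ⟨τ, ⟨⟨n, hn⟩, hτ⟩, -⟩ := htor (φ β - (k ^ M - φ t * z)) ⟨T, by
    rw [map_mul, map_pow] at hiz
    rw [mul_sub, mul_sub, hiz]
    ring⟩
  have hτ0 : algebraMap A (Localization.Away t) τ = 0 :=
    (IsLocalization.map_eq_zero_iff (Submonoid.powers t) _ _).2 ⟨⟨t ^ n, n, rfl⟩, hn⟩
  have hφa : φ (β - τ) = k ^ M - φ t * z := by rw [map_sub, hτ]; ring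
  refine ⟨β - τ, fun hmem => ?_, ?_, fun q htq hKq => ?_⟩
  · obtain ⟨c, hc⟩ : ∃ c, β - τ - s ^ (N * M) = t * c := by
      have hmem' : β - τ - s ^ (N * M) ∈ Ideal.span {t} ^ 1 := by
        rw [← Ideal.Quotient.eq_zero_iff_mem]
        apply (hq 1).1
        rw [map_zero, Ideal.quotientMap_mk, pow_one]
        have hk' : k = φ s ^ N - x * φ t := by rw [← hky]; ring
        have hq0 : (Ideal.Quotient.mk (Ideal.map φ (Ideal.span {t}))) (φ t) = 0 :=
          Ideal.Quotient.eq_zero_iff_mem.2 (Ideal.mem_map_of_mem _ (Ideal.mem_span_singleton_self t))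
        simp only [map_sub φ (β - τ), hφa, hk', map_pow φ, map_sub, map_mul, map_pow, hq0, mul_zero, sub_zero,
          zero_mul, ← pow_mul, sub_self]
      rw [pow_one, Ideal.mem_span_singleton] at hmem'
      exact hmem'
    exact hs (P.isPrime.mem_of_pow_mem _ (by
      rw [show s ^ (N * M) = (β - τ) - t * c from by rw [← hc]; ring]
      exact P.asIdeal.sub_mem hmem (P.asIdeal.mul_mem_right c htP)))
  · rw [map_sub, hτ0, sub_zero]
    have : algebraMap A (Localization.Away t) (t ^ T * β) ∈ J := hi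
    rw [map_mul] at this
    exact (J.unit_mul_mem_iff_mem (IsLocalization.map_units (Localization.Away t)
      (⟨t ^ T, T, rfl⟩ : Submonoid.powers t))).1 this
  · rw [hφa]
    exact q.asIdeal.sub_mem (Ideal.pow_mem_of_mem _ (hKq hk) M (Nat.succ_pos _)) (q.asIdeal.mul_mem_right z htq)

end Ring

section Pair

variable {A A' : Type u} [CommRing A] [CommRing A'] [Algebra A A'] {t : A}

theorem quotMap_bijective (h : EtGlue.IsGlueingPair A A' t) (m : ℕ) :
    Function.Bijective (Ideal.quotientMap (Ideal.map (algebraMap A A') (Ideal.span {t} ^ m)) (algebraMap A A')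
      Ideal.le_comap_map) := by
  rcases Nat.eq_zero_or_pos m with rfl | hm
  · have h1 : Ideal.map (algebraMap A A') (Ideal.span {t} ^ 0) = ⊤ := by
      rw [pow_zero, Ideal.one_eq_top, Ideal.map_top]
    haveI : Subsingleton (A' ⧸ Ideal.map (algebraMap A A') (Ideal.span {t} ^ 0)) :=
      Ideal.Quotient.subsingleton_iff.2 h1
    haveI : Subsingleton (A ⧸ Ideal.span {t} ^ 0) := Ideal.Quotient.subsingleton_iff.2 (by simp)
    exact ⟨Function.injective_of_subsingleton _, fun y => ⟨0, Subsingleton.elim _ _⟩⟩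
  · have e := h.1 m hm
    convert e using 3 <;> rw [Ideal.span_singleton_pow]

theorem existsUnique_torsion (h : EtGlue.IsGlueingPair A A' t) :
    ∀ a' : A', (∃ m : ℕ, algebraMap A A' t ^ m * a' = 0) →
      ∃! a : A, (∃ m : ℕ, t ^ m * a = 0) ∧ algebraMap A A' a = a' := by
  rintro a' ⟨m, hm⟩
  have h0 : algebraMap A' (Localization.Away (algebraMap A A' t)) a' = Localization.awayMap (algebraMap A A') t 0 := by
    rw [map_zero]
    exact (IsLocalization.map_eq_zero_iff (Submonoid.powers (algebraMap A A' t)) _ _).2 ⟨⟨_, m, rfl⟩, hm⟩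
  obtain ⟨r, hr, hr'⟩ := h.2.2.1 a' 0 h0
  obtain ⟨⟨_, n, rfl⟩, hn⟩ := (IsLocalization.map_eq_zero_iff (Submonoid.powers t) (Localization.Away t) r).1 hr'
  refine ⟨r, ⟨⟨n, hn⟩, hr⟩, fun r₂ ⟨⟨n₂, hn₂⟩, hr₂⟩ => h.2.1 (Prod.ext (hr₂.trans hr.symm) ?_)⟩
  show algebraMap A (Localization.Away t) r₂ = algebraMap A _ r
  rw [hr']
  exact (IsLocalization.map_eq_zero_iff (Submonoid.powers t) _ _).2 ⟨⟨_, n₂, rfl⟩, hn₂⟩

/-- A neighbourhood of `P ∈ V(t)` over which the monomorphism has affine source. -/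
theorem exists_affine_preimage (h : EtGlue.IsGlueingPair A A' t) {W : Scheme.{u}} (p : W ⟶ Spec (.of A)) [Mono p]
    (x' : Spec (.of A') ⟶ W) (hx' : x' ≫ p = Spec.map (CommRingCat.ofHom (algebraMap A A')))
    (xt : Spec (.of (Localization.Away t)) ⟶ W)
    (hxt : xt ≫ p = Spec.map (CommRingCat.ofHom (algebraMap A (Localization.Away t))))
    (P : PrimeSpectrum A) (htP : t ∈ P.asIdeal) :
    ∃ a : A, a ∉ P.asIdeal ∧ IsAffineOpen (p ⁻¹ᵁ PrimeSpectrum.basicOpen a) := by
  classical
  let φ := algebraMap A A'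
  have hq := quotMap_bijective h
  have htor := existsUnique_torsion h
  obtain ⟨P', hP'⟩ : ∃ P' : PrimeSpectrum A', PrimeSpectrum.comap φ P' = P := by
    rcases GluePairLib.exists_prime_over φ t hq P with h1 | ⟨Q, hQ⟩
    · exact h1
    · have : P ∈ Set.range (PrimeSpectrum.comap (algebraMap A (Localization.Away t))) := ⟨Q, hQ⟩
      rw [PrimeSpectrum.localization_away_comap_range (Localization.Away t) t] at this
      exact absurd htP this
  obtain ⟨O, hO, hwO, -⟩ := exists_isAffineOpen_mem_and_subset (X := W) (U := ⊤) (x := x' P') trivial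
  obtain ⟨K, hK⟩ := (PrimeSpectrum.isClosed_iff_zeroLocus_ideal _).1 (x' ⁻¹ᵁ O).isOpen.isClosed_compl
  obtain ⟨J, hJ⟩ := (PrimeSpectrum.isClosed_iff_zeroLocus_ideal _).1 (xt ⁻¹ᵁ O).isOpen.isClosed_compl
  have hp : Function.Injective p := Scheme.Hom.injective p
  have hpt : ∀ q : PrimeSpectrum (Localization.Away t), p (xt q) = PrimeSpectrum.comap (algebraMap A _) q :=
    fun q => by rw [← Scheme.Hom.comp_apply, hxt]; rfl
  have hp' : ∀ q : PrimeSpectrum A', p (x' q) = PrimeSpectrum.comap φ q :=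
    fun q => by rw [← Scheme.Hom.comp_apply, hx']; rfl
  have hK' : ∀ q : PrimeSpectrum A', x' q ∉ O ↔ K ≤ q.asIdeal := fun q => by
    exact Set.ext_iff.1 hK q
  have hJ' : ∀ q : PrimeSpectrum (Localization.Away t), xt q ∉ O ↔ J ≤ q.asIdeal := fun q => by
    exact Set.ext_iff.1 hJ q
  have hcomp : ∀ q : PrimeSpectrum (Localization.Away (φ t)),
      xt (PrimeSpectrum.comap (Localization.awayMap φ t) q) = x' (PrimeSpectrum.comap (algebraMap A' _) q) := by
    intro q
    apply hp
    rw [hpt, hp', ← PrimeSpectrum.comap_comp_apply, ← PrimeSpectrum.comap_comp_apply]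
    congr 1
    exact IsLocalization.map_comp _
  have hJK : (PrimeSpectrum.zeroLocus (J.map (Localization.awayMap φ t) : Set (Localization.Away (φ t)))) =
      PrimeSpectrum.zeroLocus (K.map (algebraMap A' (Localization.Away (φ t))) : Set (Localization.Away (φ t))) := by
    ext q
    simp only [PrimeSpectrum.mem_zeroLocus, SetLike.coe_subset_coe, Ideal.map_le_iff_le_comap]
    refine ((hJ' (PrimeSpectrum.comap (Localization.awayMap φ t) q)).symm).trans (Iff.trans ?_
      (hK' (PrimeSpectrum.comap (algebraMap A' _) q)))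
    rw [hcomp]
  obtain ⟨U, ⟨_, ⟨s', rfl⟩, rfl⟩, hs'P, hs'O⟩ := PrimeSpectrum.isBasis_basic_opens.exists_subset_of_mem_open
    (u := ((x' ⁻¹ᵁ O).1 : Set (PrimeSpectrum A'))) (show x' P' ∈ O from hwO)
    (x' ⁻¹ᵁ O).isOpen
  obtain ⟨c, hc⟩ := (hq 1).2 (Ideal.Quotient.mk _ s')
  obtain ⟨s, rfl⟩ := Ideal.Quotient.mk_surjective c
  rw [Ideal.quotientMap_mk, Ideal.Quotient.eq, pow_one, Ideal.map_span, Set.image_singleton,
    Ideal.mem_span_singleton'] at hc
  obtain ⟨d, hd⟩ := hc
  have hsmem : ∀ q : PrimeSpectrum A', φ t ∈ q.asIdeal → (φ s ∈ q.asIdeal ↔ s' ∈ q.asIdeal) := fun q hq' => by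
    have : φ s - s' ∈ q.asIdeal := hd ▸ q.asIdeal.mul_mem_left d hq'
    exact ⟨fun h1 => by simpa using q.asIdeal.sub_mem h1 this, fun h1 => by simpa using q.asIdeal.add_mem h1 this⟩
  have htP' : φ t ∈ P'.asIdeal := by rw [← hP'] at htP; exact htP
  have hsP : s ∉ P.asIdeal := fun hm => hs'P ((hsmem P' htP').1 (by rw [← hP'] at hm; exact hm))
  obtain ⟨a, haP, haJ, haK⟩ := exists_avoid φ t hq htor J K hJK P htP s hsP fun q htq hKq => by
    by_contra hsq
    exact (hK' q).2 hKq (hs'O (fun hm => hsq ((hsmem q htq).2 hm)))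
  refine ⟨a, haP, ?_⟩
  have hsub : p ⁻¹ᵁ PrimeSpectrum.basicOpen a ≤ O := by
    intro w hw
    have hw' : a ∉ (p w).asIdeal := hw
    by_contra hwO'
    rcases GluePairLib.exists_prime_over φ t hq (p w) with ⟨q, hq'⟩ | ⟨Q, hQ⟩
    · have hwx : x' q = w := hp (by rw [hp', hq'])
      by_cases htq : φ t ∈ q.asIdeal
      · refine hw' ?_
        rw [← hq']
        exact haK q htq ((hK' q).1 (hwx ▸ hwO'))
      · have : p w ∈ Set.range (PrimeSpectrum.comap (algebraMap A (Localization.Away t))) := by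
          rw [PrimeSpectrum.localization_away_comap_range (Localization.Away t) t, ← hq']
          exact htq
        obtain ⟨Q, hQ⟩ := this
        refine hw' ?_
        rw [← hQ]
        exact (hJ' Q).1 ((hp (by rw [hpt, hQ] : p (xt Q) = p w)) ▸ hwO') haJ
    · refine hw' ?_
      rw [← hQ]
      exact (hJ' Q).1 ((hp (by rw [hpt, hQ] : p (xt Q) = p w)) ▸ hwO') haJ
  haveI : IsAffine O.toScheme := hO
  have e : O.ι ''ᵁ ((O.ι ≫ p) ⁻¹ᵁ PrimeSpectrum.basicOpen a) = p ⁻¹ᵁ PrimeSpectrum.basicOpen a := by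
    rw [Scheme.Hom.comp_preimage, Scheme.Hom.image_preimage_eq_opensRange_inf, Scheme.Opens.opensRange_ι]
    exact inf_eq_right.2 hsub
  rw [← e]
  exact ((IsAffineOpen.Spec_basicOpen a).preimage (O.ι ≫ p)).image_of_isOpenImmersion O.ι

/-- A monomorphism with sections over both pieces is an isomorphism. -/
theorem isIso_of_glueing (h : EtGlue.IsGlueingPair A A' t) {W : Scheme.{u}} (p : W ⟶ Spec (.of A)) [Mono p]
    (x' : Spec (.of A') ⟶ W) (hx' : x' ≫ p = Spec.map (CommRingCat.ofHom (algebraMap A A')))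
    (xt : Spec (.of (Localization.Away t)) ⟶ W)
    (hxt : xt ≫ p = Spec.map (CommRingCat.ofHom (algebraMap A (Localization.Away t))))
    (hloc : ∀ a : A, ∃ (B' : Type u) (_ : CommRing B') (_ : Algebra (Localization.Away a) B') (ψ : A' →+* B'),
      ψ.comp (algebraMap A A') = (algebraMap (Localization.Away a) B').comp (algebraMap A (Localization.Away a)) ∧
        EtGlue.IsGlueingPair (Localization.Away a) B' (algebraMap A (Localization.Away a) t)) : IsIso p := by
  suffices hP : ∀ P : PrimeSpectrum A, ∃ a : A, a ∉ P.asIdeal ∧ ∃ σ : Spec (.of (Localization.Away a)) ⟶ W,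
      σ ≫ p = Spec.map (CommRingCat.ofHom (algebraMap A (Localization.Away a))) by
    choose a ha σ hσ using hP
    have hspan : Ideal.span (Set.range a) = ⊤ := by
      by_contra hne
      obtain ⟨m, hm, hle⟩ := Ideal.exists_le_maximal _ hne
      exact ha ⟨m, hm.isPrime⟩ (hle (Ideal.subset_span ⟨_, rfl⟩))
    refine (IsZariskiLocalAtTarget.iff_of_openCover (P := .isomorphisms Scheme.{u})
      (Scheme.affineOpenCoverOfSpanRangeEqTop (R := CommRingCat.of A) a hspan).openCover).2 fun P => ?_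
    show IsIso (pullback.snd p (Spec.map (CommRingCat.ofHom (algebraMap A (Localization.Away (a P))))))
    haveI : IsSplitEpi (pullback.snd p (Spec.map (CommRingCat.ofHom (algebraMap A (Localization.Away (a P)))))) :=
      ⟨⟨⟨pullback.lift (σ P) (𝟙 _) (by rw [hσ, Category.id_comp]), pullback.lift_snd _ _ _⟩⟩⟩
    exact isIso_of_mono_of_isSplitEpi _
  intro P
  by_cases htP : t ∈ P.asIdeal
  · obtain ⟨a, haP, hWa⟩ := exists_affine_preimage h p x' hx' xt hxt P htP
    refine ⟨a, haP, ?_⟩
    let B := Localization.Away a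
    obtain ⟨B', _, _, ψ, hψ, hB⟩ := hloc a
    let tB := algebraMap A B t
    let X := pullback p (Spec.map (CommRingCat.ofHom (algebraMap A B)))
    haveI : IsAffine X := by
      have hr : (pullback.fst p (Spec.map (CommRingCat.ofHom (algebraMap A B)))).opensRange =
          p ⁻¹ᵁ PrimeSpectrum.basicOpen a := by
        rw [Scheme.Hom.opensRange_pullbackFst]
        congr 1
        exact TopologicalSpace.Opens.ext (PrimeSpectrum.localization_away_comap_range B a)
      haveI : IsAffine (pullback.fst p (Spec.map (CommRingCat.ofHom (algebraMap A B)))).opensRange.toScheme := hr ▸ hWa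
      exact IsAffine.of_isIso (pullback.fst p (Spec.map (CommRingCat.ofHom (algebraMap A B)))).isoOpensRange.hom
    let y' : Spec (.of B') ⟶ X := pullback.lift (Spec.map (CommRingCat.ofHom ψ) ≫ x')
      (Spec.map (CommRingCat.ofHom (algebraMap B B')))
      (by
        rw [Category.assoc, hx', ← Spec.map_comp, ← Spec.map_comp, ← CommRingCat.ofHom_comp, ← CommRingCat.ofHom_comp]
        congr 2)
    let yt : Spec (.of (Localization.Away tB)) ⟶ X := pullback.lift
      (Spec.map (CommRingCat.ofHom (Localization.awayMap (algebraMap A B) t)) ≫ xt)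
      (Spec.map (CommRingCat.ofHom (algebraMap B (Localization.Away tB))))
      (by
        rw [Category.assoc, hxt, ← Spec.map_comp, ← Spec.map_comp, ← CommRingCat.ofHom_comp, ← CommRingCat.ofHom_comp]
        congr 2
        exact IsLocalization.map_comp _)
    obtain ⟨s, hs, -⟩ := (GluePairLib.main (algebraMap B B') tB (quotMap_bijective hB)
      (existsUnique_torsion hB) X (pullback.snd _ _)).2 y' yt (pullback.lift_snd _ _ _) (pullback.lift_snd _ _ _) (by
        rw [← cancel_mono (pullback.snd p (Spec.map (CommRingCat.ofHom (algebraMap A B)))), Category.assoc,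
          Category.assoc, pullback.lift_snd, pullback.lift_snd, ← Spec.map_comp, ← Spec.map_comp,
          ← CommRingCat.ofHom_comp, ← CommRingCat.ofHom_comp]
        congr 2
        exact (IsLocalization.map_comp _).symm)
    exact ⟨s ≫ pullback.fst _ _, by rw [Category.assoc, pullback.condition, reassoc_of% hs]⟩
  · exact ⟨t, htP, xt, hxt⟩

end Pair

end Groth.Agent.GlueEqLib
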